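import Cfsg.Prelude.Def_Spor_B
import Cfsg.Prelude.Def_Spor_M
import Mathlib

/-!
Three commuting dihedral subgroups of order six in the presented groups `B` and `M`.
-/

set_option autoImplicit false
set_option linter.unusedSectionVars false
set_option linter.style.haveILetI false

namespace Cfsg.Lib.QTUniq

open Subgroup
open scoped commutatorElement

/-- three commuting pairs of an element of order three and an involution inverting it -/
def HasThreeDihedral (X : Type*) [Group X] : Prop :=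
  ∃ x a : Fin 3 → X, (∀ i, x i ^ 3 = 1) ∧ (∀ i, x i ≠ 1) ∧ (∀ i, a i * a i = 1) ∧
    (∀ i, a i * x i * (a i)⁻¹ = (x i)⁻¹) ∧ (∀ i j, x i * x j = x j * x i) ∧
    (∀ i j, i ≠ j → a i * x j = x j * a i) ∧ (∀ i j, a i * a j = a j * a i)

theorem HasThreeDihedral.of_equiv {X : Type*} [Group X] {Y : Type*} [Group Y] (e : X ≃* Y)
    (h : HasThreeDihedral X) : HasThreeDihedral Y := by
  obtain ⟨x, a, h1, h2, h3, h4, h5, h6, h7⟩ := h
  refine ⟨fun i => e (x i), fun i => e (a i), fun i => ?_, fun i => ?_, fun i => ?_, fun i => ?_,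
    fun i j => ?_, fun i j hij => ?_, fun i j => ?_⟩
  · rw [← map_pow, h1, map_one]
  · exact fun h => h2 i (e.injective ((show e (x i) = 1 from h).trans (map_one e).symm))
  · rw [← map_mul, h3, map_one]
  · rw [← map_mul, ← map_inv, ← map_mul, h4, map_inv]
  · rw [← map_mul, ← map_mul, h5]
  · rw [← map_mul, ← map_mul, h6 i j hij]
  · rw [← map_mul, ← map_mul, h7]

namespace Cox

open Cfsg.Spor

variable {α : Type} [DecidableEq α] (edges : List (α × ℕ × α)) (extra : List (FreeGroup α))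

/-- a generator of the presented group -/
abbrev g (x : α) : CoxPresented α edges extra := PresentedGroup.of x

theorem rel {x y : α} (hx : x ∈ coxNodes edges) (hy : y ∈ coxNodes edges) :
    (g edges extra x * g edges extra y) ^ coxLabel edges x y = 1 := by
  have h := PresentedGroup.one_of_mem (rels := coxRelators edges ∪ {r | r ∈ extra})
    (x := (FreeGroup.of x * FreeGroup.of y) ^ coxLabel edges x y) (Or.inl ⟨x, hx, y, hy, rfl⟩)
  rwa [map_pow, map_mul] at h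

theorem sq {x : α} (hx : x ∈ coxNodes edges) : g edges extra x * g edges extra x = 1 := by
  simpa [coxLabel] using rel edges extra hx hx

theorem inv_eq {x : α} (hx : x ∈ coxNodes edges) : (g edges extra x)⁻¹ = g edges extra x :=
  inv_eq_of_mul_eq_one_left (sq edges extra hx)

theorem comm {x y : α} (hx : x ∈ coxNodes edges) (hy : y ∈ coxNodes edges) (h : coxLabel edges x y = 2) :
    g edges extra x * g edges extra y = g edges extra y * g edges extra x := by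
  have h1 := rel edges extra hx hy
  rw [h, pow_two] at h1
  rw [eq_inv_of_mul_eq_one_left h1, _root_.mul_inv_rev, inv_eq edges extra hx, inv_eq edges extra hy]

theorem cube {x y : α} (hx : x ∈ coxNodes edges) (hy : y ∈ coxNodes edges) (h : coxLabel edges x y = 3) :
    (g edges extra x * g edges extra y) ^ 3 = 1 := h ▸ rel edges extra hx hy

/-- equality spreads along the graph -/
theorem spread {a b c : α} (ha : a ∈ coxNodes edges) (hb : b ∈ coxNodes edges) (hc : c ∈ coxNodes edges)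
    (h2 : coxLabel edges a c = 2) (h3 : coxLabel edges b c = 3) (h : g edges extra a = g edges extra b) :
    g edges extra c = g edges extra b := by
  have e3 := cube edges extra hb hc h3
  have e2 := rel edges extra ha hc
  rw [h2, h] at e2
  rw [pow_succ, e2, one_mul] at e3
  rw [eq_inv_of_mul_eq_one_right e3, inv_eq edges extra hb]

theorem inverts {x y : α} (hx : x ∈ coxNodes edges) (hy : y ∈ coxNodes edges) :
    g edges extra x * (g edges extra x * g edges extra y) * (g edges extra x)⁻¹ =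
      (g edges extra x * g edges extra y)⁻¹ := by
  rw [_root_.mul_inv_rev, inv_eq edges extra hx, inv_eq edges extra hy, ← mul_assoc (g edges extra x),
    sq edges extra hx, one_mul]

theorem mem_comm {x y : α} (hx : x ∈ coxNodes edges) (hy : y ∈ coxNodes edges) (h : coxLabel edges x y = 3) :
    g edges extra x * g edges extra y ∈ commutator (CoxPresented α edges extra) := by
  have h3 := cube edges extra hx hy h
  have h2 : (g edges extra x * g edges extra y) ^ 2 = ⁅g edges extra x, g edges extra y⁆ := by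
    rw [commutatorElement_def, inv_eq edges extra hx, inv_eq edges extra hy, pow_two]; simp only [mul_assoc]
  rw [pow_succ] at h3
  rw [eq_inv_of_mul_eq_one_right h3, h2]
  exact Subgroup.inv_mem _ (commutator_mem_commutator (mem_top _) (mem_top _))

theorem all_comm {t : CoxPresented α edges extra} (h : ∀ x, g edges extra x = t) :
    ∀ u v : CoxPresented α edges extra, u * v = v * u := by
  intro u v
  have hle : (⊤ : Subgroup (CoxPresented α edges extra)) ≤ zpowers t := by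
    rw [← PresentedGroup.closure_range_of, closure_le]
    rintro _ ⟨x, rfl⟩
    exact (h x).symm ▸ mem_zpowers t
  obtain ⟨m, rfl⟩ := mem_zpowers_iff.1 (hle (mem_top u))
  obtain ⟨n, rfl⟩ := mem_zpowers_iff.1 (hle (mem_top v))
  exact ((Commute.refl t).zpow_zpow m n).eq

end Cox

section Baby

open Cfsg.Spor Cfsg.Spor.BabyMonster

theorem baby_node : ∀ x : Gen, x ∈ coxNodes edges := by intro x; cases x <;> decide

local notation "⟪" x "⟫" => Cox.g edges extra x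

theorem baby_spread {a b c : Gen} (h : ⟪a⟫ = ⟪b⟫) (h2 : coxLabel edges a c = 2 := by decide)
    (h3 : coxLabel edges b c = 3 := by decide) : ⟪c⟫ = ⟪b⟫ :=
  Cox.spread edges extra (baby_node a) (baby_node b) (baby_node c) h2 h3 h

theorem baby_collapse_five (h : ⟪.t4⟫ = ⟪.t5⟫) : ∀ x, ⟪x⟫ = ⟪Gen.t5⟫ := by
  have e3 : ⟪.t3⟫ = ⟪.t4⟫ := baby_spread h.symm
  have e2 : ⟪.t2⟫ = ⟪.t3⟫ := baby_spread e3.symm
  have e1 : ⟪.t1⟫ = ⟪.t2⟫ := baby_spread e2.symm
  have e6 : ⟪.t6⟫ = ⟪.t5⟫ := baby_spread h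
  have e9 : ⟪.t9⟫ = ⟪.t5⟫ := baby_spread h
  have e7 : ⟪.t7⟫ = ⟪.t6⟫ := baby_spread e6.symm
  have e8 : ⟪.t8⟫ = ⟪.t7⟫ := baby_spread e7.symm
  have e10 : ⟪.t10⟫ = ⟪.t9⟫ := baby_spread e9.symm
  have e11 : ⟪.t11⟫ = ⟪.t10⟫ := baby_spread e10.symm
  intro x
  cases x <;> simp [e1, e2, e3, h, e6, e7, e8, e9, e10, e11]

theorem baby_collapse_one (h : ⟪.t1⟫ = ⟪.t2⟫) : ∀ x, ⟪x⟫ = ⟪Gen.t5⟫ :=
  baby_collapse_five (by
    have e3 : ⟪.t3⟫ = ⟪.t2⟫ := baby_spread h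
    have e4 : ⟪.t4⟫ = ⟪.t3⟫ := baby_spread e3.symm
    have e5 : ⟪.t5⟫ = ⟪.t4⟫ := baby_spread e4.symm
    exact e5.symm)

theorem baby_collapse_eight (h : ⟪.t7⟫ = ⟪.t8⟫) : ∀ x, ⟪x⟫ = ⟪Gen.t5⟫ :=
  baby_collapse_five (by
    have e6 : ⟪.t6⟫ = ⟪.t7⟫ := baby_spread h.symm
    have e5 : ⟪.t5⟫ = ⟪.t6⟫ := baby_spread e6.symm
    have e4 : ⟪.t4⟫ = ⟪.t5⟫ := baby_spread e5.symm
    exact e4)

theorem hasThree_baby (hB : ¬ IsMulCommutative BabyMonster) : HasThreeDihedral BabyMonster := by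
  have hno : ∀ t, ¬ ∀ x, ⟪x⟫ = t := fun t h => hB ⟨⟨Cox.all_comm edges extra h⟩⟩
  let u : Fin 3 → Gen := ![.t1, .t4, .t7]
  let v : Fin 3 → Gen := ![.t2, .t5, .t8]
  have h3 : ∀ i, coxLabel edges (u i) (v i) = 3 := by decide
  have h2 : ∀ i j, i ≠ j → coxLabel edges (u i) (u j) = 2 ∧ coxLabel edges (u i) (v j) = 2 ∧
      coxLabel edges (v i) (v j) = 2 := by decide
  have cuu : ∀ i j, Commute ⟪u i⟫ ⟪u j⟫ := fun i j => by
    rcases eq_or_ne i j with rfl | h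
    · exact Commute.refl _
    · exact Cox.comm edges extra (baby_node _) (baby_node _) (h2 i j h).1
  have cuv : ∀ i j, i ≠ j → Commute ⟪u i⟫ ⟪v j⟫ := fun i j h =>
    Cox.comm edges extra (baby_node _) (baby_node _) (h2 i j h).2.1
  have cvv : ∀ i j, Commute ⟪v i⟫ ⟪v j⟫ := fun i j => by
    rcases eq_or_ne i j with rfl | h
    · exact Commute.refl _
    · exact Cox.comm edges extra (baby_node _) (baby_node _) (h2 i j h).2.2
  refine ⟨fun i => ⟪u i⟫ * ⟪v i⟫, fun i => ⟪u i⟫, fun i => Cox.cube edges extra (baby_node _) (baby_node _) (h3 i),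
    fun i hi => ?_, fun i => Cox.sq edges extra (baby_node _),
    fun i => Cox.inverts edges extra (baby_node _) (baby_node _), fun i j => ?_, fun i j hij => ?_,
    fun i j => (cuu i j).eq⟩
  · have e : ⟪u i⟫ = ⟪v i⟫ := by rw [eq_inv_of_mul_eq_one_left hi, Cox.inv_eq edges extra (baby_node _)]
    fin_cases i
    · exact hno _ (baby_collapse_one e)
    · exact hno _ (baby_collapse_five e)
    · exact hno _ (baby_collapse_eight e)
  · rcases eq_or_ne i j with rfl | h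
    · rfl
    · exact (((cuu i j).mul_right (cuv i j h)).mul_left (((cuv j i h.symm).symm).mul_right (cvv i j))).eq
  · exact ((cuu i j).mul_right (cuv i j hij)).eq

end Baby

section Bimonster

open Cfsg.Spor Cfsg.Spor.Bimonster

theorem bim_node : ∀ x : Gen, x ∈ coxNodes edges := by intro x; cases x <;> decide

local notation "⟪" x "⟫" => Cox.g edges extra x

theorem bim_spread {a b c : Gen} (h : ⟪a⟫ = ⟪b⟫) (h2 : coxLabel edges a c = 2 := by decide)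
    (h3 : coxLabel edges b c = 3 := by decide) : ⟪c⟫ = ⟪b⟫ :=
  Cox.spread edges extra (bim_node a) (bim_node b) (bim_node c) h2 h3 h

theorem bim_collapse (h1 : ⟪.a⟫ = ⟪.b1⟫) : ∀ x, ⟪x⟫ = ⟪Gen.a⟫ := by
  have c1 : ⟪.c1⟫ = ⟪.b1⟫ := bim_spread h1
  have d1 : ⟪.d1⟫ = ⟪.c1⟫ := bim_spread c1.symm
  have e1 : ⟪.e1⟫ = ⟪.d1⟫ := bim_spread d1.symm
  have f1 : ⟪.f1⟫ = ⟪.e1⟫ := bim_spread e1.symm
  have b2 : ⟪.b2⟫ = ⟪.a⟫ := bim_spread h1.symm
  have c2 : ⟪.c2⟫ = ⟪.b2⟫ := bim_spread b2.symm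
  have d2 : ⟪.d2⟫ = ⟪.c2⟫ := bim_spread c2.symm
  have e2 : ⟪.e2⟫ = ⟪.d2⟫ := bim_spread d2.symm
  have f2 : ⟪.f2⟫ = ⟪.e2⟫ := bim_spread e2.symm
  have b3 : ⟪.b3⟫ = ⟪.a⟫ := bim_spread h1.symm
  have c3 : ⟪.c3⟫ = ⟪.b3⟫ := bim_spread b3.symm
  have d3 : ⟪.d3⟫ = ⟪.c3⟫ := bim_spread c3.symm
  have e3 : ⟪.e3⟫ = ⟪.d3⟫ := bim_spread d3.symm
  have f3 : ⟪.f3⟫ = ⟪.e3⟫ := bim_spread e3.symm
  intro x
  cases x <;> simp [h1, c1, d1, e1, f1, b2, c2, d2, e2, f2, b3, c3, d3, e3, f3]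

theorem hasThree_monster (hM : ¬ IsMulCommutative Monster) : HasThreeDihedral Monster := by
  have hno : ∀ t, ¬ ∀ x, ⟪x⟫ = t := fun t h => hM ⟨⟨fun p q =>
    Subtype.ext (Cox.all_comm edges extra h (p : Bimonster) (q : Bimonster))⟩⟩
  let b : Fin 3 → Gen := ![.b1, .b2, .b3]
  let c : Fin 3 → Gen := ![.c1, .c2, .c3]
  let d : Fin 3 → Gen := ![.d1, .d2, .d3]
  let e : Fin 3 → Gen := ![.e1, .e2, .e3]
  let f : Fin 3 → Gen := ![.f1, .f2, .f3]
  have hl : ∀ i, coxLabel edges (c i) (d i) = 3 ∧ coxLabel edges (d i) (e i) = 3 ∧ coxLabel edges (e i) (f i) = 3 ∧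
      coxLabel edges Gen.a (c i) = 2 ∧ coxLabel edges Gen.a (d i) = 2 ∧ coxLabel edges Gen.a (f i) = 2 ∧
      coxLabel edges (c i) (f i) = 2 ∧ coxLabel edges (d i) (f i) = 2 := by decide
  have h2 : ∀ i j, i ≠ j → coxLabel edges (c i) (c j) = 2 ∧ coxLabel edges (c i) (d j) = 2 ∧
      coxLabel edges (c i) (f j) = 2 ∧ coxLabel edges (d i) (d j) = 2 ∧ coxLabel edges (d i) (f j) = 2 ∧
      coxLabel edges (f i) (f j) = 2 := by decide
  have cm : ∀ x y, coxLabel edges x y = 2 → Commute ⟪x⟫ ⟪y⟫ := fun x y h =>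
    Cox.comm edges extra (bim_node x) (bim_node y) h
  have hC : ∀ x, coxLabel edges Gen.a x = 2 → ⟪x⟫ ∈ centralizer ({⟪Gen.a⟫} : Set Bimonster) := fun x h =>
    mem_centralizer_singleton_iff.2 (cm _ _ h).eq.symm
  have hxm : ∀ i, ⟪c i⟫ * ⟪d i⟫ ∈ centralizer ({⟪Gen.a⟫} : Set Bimonster) ⊓ commutator Bimonster := fun i =>
    ⟨mul_mem (hC _ (hl i).2.2.2.1) (hC _ (hl i).2.2.2.2.1),
      Cox.mem_comm edges extra (bim_node _) (bim_node _) (hl i).1⟩
  have ham : ∀ i, ⟪c i⟫ * ⟪f i⟫ ∈ centralizer ({⟪Gen.a⟫} : Set Bimonster) ⊓ commutator Bimonster := fun i => by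
    refine ⟨mul_mem (hC _ (hl i).2.2.2.1) (hC _ (hl i).2.2.2.2.2.1), ?_⟩
    have e' : ⟪c i⟫ * ⟪f i⟫ = ⟪c i⟫ * ⟪d i⟫ * (⟪d i⟫ * ⟪e i⟫) * (⟪e i⟫ * ⟪f i⟫) := by
      rw [mul_assoc ⟪c i⟫, ← mul_assoc ⟪d i⟫, Cox.sq edges extra (bim_node _), one_mul, mul_assoc,
        ← mul_assoc ⟪e i⟫, Cox.sq edges extra (bim_node _), one_mul]
    rw [e']
    exact mul_mem (mul_mem (Cox.mem_comm edges extra (bim_node _) (bim_node _) (hl i).1)
      (Cox.mem_comm edges extra (bim_node _) (bim_node _) (hl i).2.1))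
      (Cox.mem_comm edges extra (bim_node _) (bim_node _) (hl i).2.2.1)
  refine ⟨fun i => ⟨_, hxm i⟩, fun i => ⟨_, ham i⟩,
    fun i => Subtype.ext (Cox.cube edges extra (bim_node _) (bim_node _) (hl i).1),
    fun i hi => ?_, fun i => Subtype.ext ?_, fun i => Subtype.ext ?_, fun i j => Subtype.ext ?_,
    fun i j hij => Subtype.ext ?_, fun i j => Subtype.ext ?_⟩
  · have e0 : ⟪c i⟫ = ⟪d i⟫ := by
      rw [eq_inv_of_mul_eq_one_left (congrArg Subtype.val hi :), Cox.inv_eq edges extra (bim_node _)]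
    fin_cases i
    · have e1 : ⟪.b1⟫ = ⟪.c1⟫ := bim_spread (e0.symm : ⟪Gen.d1⟫ = ⟪Gen.c1⟫)
      have e2 : ⟪.a⟫ = ⟪.b1⟫ := bim_spread e1.symm
      exact hno _ (bim_collapse e2)
    · have e1 : ⟪.b2⟫ = ⟪.c2⟫ := bim_spread (e0.symm : ⟪Gen.d2⟫ = ⟪Gen.c2⟫)
      have e2 : ⟪.a⟫ = ⟪.b2⟫ := bim_spread e1.symm
      have e3 : ⟪.b1⟫ = ⟪.a⟫ := bim_spread e2.symm
      exact hno _ (bim_collapse e3.symm)
    · have e1 : ⟪.b3⟫ = ⟪.c3⟫ := bim_spread (e0.symm : ⟪Gen.d3⟫ = ⟪Gen.c3⟫)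
      have e2 : ⟪.a⟫ = ⟪.b3⟫ := bim_spread e1.symm
      have e3 : ⟪.b1⟫ = ⟪.a⟫ := bim_spread e2.symm
      exact hno _ (bim_collapse e3.symm)
  · show ⟪c i⟫ * ⟪f i⟫ * (⟪c i⟫ * ⟪f i⟫) = 1
    rw [(cm _ _ (hl i).2.2.2.2.2.2.1).eq, mul_assoc, ← mul_assoc ⟪c i⟫, (cm _ _ (hl i).2.2.2.2.2.2.1).eq,
      mul_assoc ⟪f i⟫, Cox.sq edges extra (bim_node _), mul_one, Cox.sq edges extra (bim_node _)]
  · show ⟪c i⟫ * ⟪f i⟫ * (⟪c i⟫ * ⟪d i⟫) * (⟪c i⟫ * ⟪f i⟫)⁻¹ = (⟪c i⟫ * ⟪d i⟫)⁻¹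
    have hf : Commute ⟪f i⟫ (⟪c i⟫ * ⟪d i⟫) :=
      ((cm _ _ (hl i).2.2.2.2.2.2.1).symm).mul_right (cm _ _ (hl i).2.2.2.2.2.2.2).symm
    calc ⟪c i⟫ * ⟪f i⟫ * (⟪c i⟫ * ⟪d i⟫) * (⟪c i⟫ * ⟪f i⟫)⁻¹
        = ⟪c i⟫ * (⟪f i⟫ * (⟪c i⟫ * ⟪d i⟫)) * ⟪f i⟫⁻¹ * ⟪c i⟫⁻¹ := by group
      _ = ⟪c i⟫ * ((⟪c i⟫ * ⟪d i⟫) * ⟪f i⟫) * ⟪f i⟫⁻¹ * ⟪c i⟫⁻¹ := by rw [hf.eq]
      _ = ⟪c i⟫ * (⟪c i⟫ * ⟪d i⟫) * ⟪c i⟫⁻¹ := by group
      _ = _ := Cox.inverts edges extra (bim_node _) (bim_node _)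
  all_goals
    rcases eq_or_ne i j with rfl | h
    · first
        | exact absurd rfl ‹i ≠ i›
        | rfl
    · have q := h2 i j h
      have r := h2 j i h.symm
      show _ * _ = _ * _
      first
        | exact (((cm _ _ q.1).mul_right (cm _ _ q.2.1)).mul_left
            ((cm _ _ r.2.1).symm.mul_right (cm _ _ q.2.2.2.1))).eq
        | exact (((cm _ _ q.1).mul_right (cm _ _ q.2.1)).mul_left
            ((cm _ _ r.2.2.1).symm.mul_right (cm _ _ r.2.2.2.2.1).symm)).eq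
        | exact (((cm _ _ q.1).mul_right (cm _ _ q.2.2.1)).mul_left
            ((cm _ _ r.2.2.1).symm.mul_right (cm _ _ q.2.2.2.2.2))).eq

end Bimonster

end Cfsg.Lib.QTUniq
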