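import Cfsg.Agent.OddLocal.SmallAction
import Cfsg.Agent.Coprime.Generation
import Cfsg.Agent.CoprimeLayer.Perfect
import Cfsg.Agent.S0071
import Mathlib.RingTheory.ZMod.UnitsCyclic

/-!
No elementary abelian `q`-group of rank three acts faithfully on a `p`-group of rank two, and three
commuting pairs of a `p`-subgroup and a `q`-element moving it force `p`-rank three.
-/

set_option autoImplicit false
set_option linter.unusedSectionVars false
set_option linter.style.haveILetI false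

namespace Cfsg.Lib.QTUniq

open Subgroup
open Cfsg.Lib.OddP (exists_exponent_critical frattiniAction le_centralizer_of_frattiniAction
  frattini_quotient_small pRankLE_of_injective le_normalizer_map_of_char)

universe u

theorem card_le_of_exponent {q : ℕ} (hq : q.Prime) {B : Type*} [Group B] [IsCyclic B]
    (hexp : ∀ b : B, b ^ q = 1) : Nat.card B ≤ q := by
  obtain ⟨g, hg⟩ := IsCyclic.exists_ofOrder_eq_natCard (α := B)
  rw [← hg]
  exact Nat.le_of_dvd hq.pos (orderOf_dvd_of_pow_eq_one (hexp g))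

theorem isCyclic_mulAut_of_card {p : ℕ} (hp : p.Prime) {W : Type*} [Group W] [Finite W]
    (h : Nat.card W = p) : IsCyclic (MulAut W) := by
  haveI := Fact.mk hp
  haveI : IsCyclic W := isCyclic_of_prime_card h
  exact (MulEquiv.isCyclic (IsCyclic.mulAutMulEquiv W)).2 (by rw [h]; exact ZMod.isCyclic_units_prime hp)

/-- a hom from a group of exponent `q` into automorphisms of a group of prime order has small image -/
theorem card_range_le {p q : ℕ} (hp : p.Prime) (hq : q.Prime) {W : Type*} [Group W] [Finite W]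
    (hW : Nat.card W = p) {B : Type*} [Group B] (hexp : ∀ b : B, b ^ q = 1) (f : B →* MulAut W) :
    Nat.card f.range ≤ q := by
  haveI := isCyclic_mulAut_of_card hp hW
  refine card_le_of_exponent hq fun x => ?_
  obtain ⟨_, b, rfl⟩ := x
  exact Subtype.ext (by show (f b) ^ q = 1; rw [← map_pow, hexp, map_one])

theorem card_le_sq {p q : ℕ} (hp : p.Prime) (hq : q.Prime) (hqp : q ≠ p) {V : Type u} [CommGroup V]
    [Finite V] (hV : ∀ v : V, v ^ p = 1) {k : ℕ} (hk : k ≤ 2) (hcard : Nat.card V = p ^ k)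
    (B : Subgroup (MulAut V)) (hcomm : IsMulCommutative B) (hexp : ∀ b ∈ B, b ^ q = 1) :
    Nat.card B ≤ q ^ 2 := by
  haveI : Finite (MulAut V) := Finite.of_injective (fun e => (e : V → V)) DFunLike.coe_injective
  haveI := hcomm
  haveI := Fact.mk hp
  have hq1 : q ≤ q ^ 2 := Nat.le_self_pow two_ne_zero q
  have hexp' : ∀ b : B, b ^ q = 1 := fun b => Subtype.ext (hexp b b.2)
  rcases (show k = 0 ∨ k = 1 ∨ k = 2 by omega) with rfl | rfl | rfl
  · haveI : Subsingleton V := (Nat.card_eq_one_iff_unique.mp (hcard.trans (pow_zero p))).1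
    haveI : Subsingleton (MulAut V) := ⟨fun a b => MulEquiv.ext fun v => Subsingleton.elim _ _⟩
    rw [Nat.card_unique]
    exact Nat.one_le_pow _ _ hq.pos
  · haveI := isCyclic_mulAut_of_card hp (hcard.trans (pow_one p))
    exact (card_le_of_exponent hq hexp').trans hq1
  by_cases hcyc : IsCyclic B
  · exact (card_le_of_exponent hq hexp').trans hq1
  letI : CommGroup B := { (inferInstance : Group B) with mul_comm := mul_comm' }
  obtain ⟨r, x, y, hr, hx, hy, hxy⟩ := Cfsg.Lib.Coprime.exists_root_pair_of_not_cyclic hcyc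
  obtain rfl : r = q := (Nat.prime_dvd_prime_iff_eq hr hq).mp (hx ▸ orderOf_dvd_of_pow_eq_one (hexp' x))
  -- some nontrivial element fixes a nontrivial vector
  obtain ⟨b, hb1, v, hv, hbv⟩ : ∃ b : B, b ≠ 1 ∧ ∃ v : V, v ≠ 1 ∧ (b : MulAut V) v = v := by
    by_contra hno
    push Not at hno
    have hS : ∀ (b : B) (v : V), b ≠ 1 → (b : MulAut V) v = v → v ∈ (⊥ : Subgroup V) := fun b v hb h =>
      mem_bot.2 (by_contra fun hv => hno b hb v hv h)
    have hy1 : y ≠ 1 := fun e => by rw [e, orderOf_one] at hy; exact hr.one_lt.ne hy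
    obtain ⟨v, hv⟩ : ∃ v : V, v ≠ 1 := by
      have h1 : 1 < Nat.card V := hcard ▸ Nat.one_lt_pow two_ne_zero hp.one_lt
      haveI := Finite.one_lt_card_iff_nontrivial.1 h1
      exact exists_ne 1
    refine hv ?_
    have h2 : v ^ r = 1 := mem_bot.1 (Cfsg.Lib.Coprime.pow_mem_of_fixed hr (hexp _ x.2) (hexp _ y.2)
      (congrArg Subtype.val (mul_comm x y)) (fun w hw => hS y w hy1 hw)
      (fun j _ w hw => hS (x * y ^ j) w (fun e => hxy ?_) hw) v)
    · exact orderOf_eq_one_iff.1 (Nat.eq_one_of_dvd_coprimes ((Nat.coprime_primes hr hp).2 hqp)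
        (orderOf_dvd_of_pow_eq_one h2) (orderOf_dvd_of_pow_eq_one (hV v)))
    · have e1 : x = (y ^ j)⁻¹ := eq_inv_of_mul_eq_one_left e
      haveI := Fact.mk hr
      have h3 : zpowers x = zpowers y := eq_of_le_of_card_ge
        (zpowers_le.2 (e1 ▸ Subgroup.inv_mem _ (pow_mem (mem_zpowers y) j)))
        (by rw [Nat.card_zpowers, Nat.card_zpowers, hx, hy])
      exact h3 ▸ mem_zpowers y
  -- the fixed points of `b`
  let W : Subgroup V :=
    { carrier := {w | (b : MulAut V) w = w}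
      one_mem' := map_one _
      mul_mem' := fun {a c} (ha : (b : MulAut V) a = a) (hc : (b : MulAut V) c = c) => by
        show (b : MulAut V) (a * c) = a * c
        rw [map_mul, ha, hc]
      inv_mem' := fun {a} (ha : (b : MulAut V) a = a) => by
        show (b : MulAut V) a⁻¹ = a⁻¹
        rw [map_inv, ha] }
  have hWp : Nat.card W = p := by
    obtain ⟨i, hi, hWi⟩ := (Nat.dvd_prime_pow hp).1 (hcard ▸ card_subgroup_dvd_card W)
    rcases (show i = 0 ∨ i = 1 ∨ i = 2 by omega) with rfl | rfl | rfl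
    · rw [pow_zero, card_eq_one] at hWi
      exact absurd (mem_bot.1 (hWi ▸ (show v ∈ W from hbv))) hv
    · rw [hWi, pow_one]
    · have htop : W = ⊤ := Subgroup.eq_top_of_card_eq W (hWi.trans hcard.symm)
      exact absurd (Subtype.ext (MulEquiv.ext fun w => show (b : MulAut V) w = w from htop.ge (mem_top w))) hb1
  have hmap : ∀ (t : B) (w : V), w ∈ W → (t : MulAut V) w ∈ W := fun t w (hw : (b : MulAut V) w = w) => by
    show (b : MulAut V) ((t : MulAut V) w) = (t : MulAut V) w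
    rw [← MulAut.mul_apply, congrArg Subtype.val (mul_comm b t) |> fun e => (show (b : MulAut V) * t = t * b from e),
      MulAut.mul_apply, hw]
  let f : B →* MulAut W := MonoidHom.mk' (fun t =>
    { toFun := fun w => ⟨(t : MulAut V) w, hmap t w w.2⟩
      invFun := fun w => ⟨(t⁻¹ : B).1 w, hmap t⁻¹ w w.2⟩
      left_inv := fun w => Subtype.ext (by simp)
      right_inv := fun w => Subtype.ext (by simp)
      map_mul' := fun a c => Subtype.ext (map_mul _ _ _) }) fun s t => MulEquiv.ext fun w => Subtype.ext rfl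
  have hmapW : ∀ t : B, W.map (t : MulAut V).toMonoidHom = W := fun t => by
    refine eq_of_le_of_card_ge ?_ (card_map_of_injective (f := (t : MulAut V).toMonoidHom) (MulEquiv.injective _)).ge
    rintro _ ⟨w, hw, rfl⟩
    exact hmap t w hw
  let g : B →* MulAut (V ⧸ W) := MonoidHom.mk' (fun t => QuotientGroup.congr W W (t : MulAut V) (hmapW t))
    fun s t => MulEquiv.ext fun z => by
      obtain ⟨z, rfl⟩ := QuotientGroup.mk_surjective z
      rfl
  have hQ : Nat.card (V ⧸ W) = p := by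
    have h := card_eq_card_quotient_mul_card_subgroup W
    rw [hcard, hWp, sq] at h
    exact (Nat.eq_of_mul_eq_mul_right hp.pos h).symm
  have hfg : f.ker ⊓ g.ker = ⊥ := by
    refine (Subgroup.eq_bot_iff_forall _).2 fun t ⟨ht1, ht2⟩ => Subtype.ext (MulEquiv.ext fun z => ?_)
    have hw : z⁻¹ * (t : MulAut V) z ∈ W := by
      rw [← QuotientGroup.eq]
      exact ((MulEquiv.congr_fun (MonoidHom.mem_ker.1 ht2) (z : V ⧸ W) :)).symm
    have hfix : ∀ w ∈ W, (t : MulAut V) w = w := fun w hw =>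
      congrArg Subtype.val (MulEquiv.congr_fun (MonoidHom.mem_ker.1 ht1) ⟨w, hw⟩)
    set w := z⁻¹ * (t : MulAut V) z with hwdef
    have hpow : ∀ n : ℕ, ((t : MulAut V) ^ n) z = z * w ^ n := by
      intro n
      induction n with
      | zero => simp
      | succ n ih =>
        rw [pow_succ', MulAut.mul_apply, ih, map_mul, hfix _ (pow_mem hw n),
          show (t : MulAut V) z = z * w by rw [hwdef, mul_inv_cancel_left], mul_assoc, ← pow_succ']
    have h1 := hpow r
    rw [hexp _ t.2, MulAut.one_apply, left_eq_mul] at h1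
    have h2 : w = 1 := orderOf_eq_one_iff.1 (Nat.eq_one_of_dvd_coprimes ((Nat.coprime_primes hr hp).2 hqp)
      (orderOf_dvd_of_pow_eq_one h1) (orderOf_dvd_of_pow_eq_one (hV w)))
    show (t : MulAut V) z = z
    exact (inv_mul_eq_one.1 h2).symm
  have h1 := card_range_le hp hr hWp hexp' f
  have h2 := card_range_le hp hr hQ hexp' g
  have h3 : Nat.card B = f.ker.index * Nat.card f.ker := by rw [mul_comm, card_mul_index]
  rw [index_ker] at h3
  have h4 : Nat.card f.ker ≤ Nat.card g.range := by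
    refine Nat.card_le_card_of_injective (fun t : f.ker => (⟨g t.1, ⟨t.1, rfl⟩⟩ : g.range)) fun s t e => ?_
    have h5 : (s.1)⁻¹ * t.1 ∈ f.ker ⊓ g.ker :=
      ⟨mul_mem (Subgroup.inv_mem _ s.2) t.2, MonoidHom.mem_ker.2 (by
        rw [map_mul, map_inv, inv_mul_eq_one]; exact congrArg Subtype.val e)⟩
    rw [hfg, mem_bot, inv_mul_eq_one] at h5
    exact Subtype.ext h5
  rw [h3, sq]
  exact Nat.mul_le_mul h1 (h4.trans h2)

variable {G : Type u} [Group G] [Finite G]

/-- no elementary abelian group of order `q ^ 3` acts faithfully on rank two -/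
theorem no_cube {p q : ℕ} [Fact p.Prime] (hp2 : p ≠ 2) (hq : q.Prime) (hqp : q ≠ p) {P A : Subgroup G}
    (hP : IsPGroup p P) (hr : Cfsg.PRankLE p 2 P) (hA : A ≤ normalizer (P : Set G))
    (hcop : (Nat.card A).Coprime p)
    (hcomm : ∀ a ∈ A, ∀ b ∈ A, a * b * a⁻¹ * b⁻¹ ∈ centralizer (P : Set G))
    (hexp : ∀ a ∈ A, a ^ q ∈ centralizer (P : Set G))
    (h3 : q ^ 3 ≤ (A ⊓ centralizer (P : Set G)).relIndex A) : False := by
  obtain ⟨D, hDc, hDexp, hD⟩ := exists_exponent_critical hp2 hP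
  set U := D.map P.subtype with hU
  have hUP : U ≤ P := map_subtype_le D
  have hUp : IsPGroup p U := (hP.to_subgroup D).map _
  have hAU : A ≤ normalizer (U : Set G) := hA.trans (le_normalizer_map_of_char D)
  have hexpU : ∀ y : U, y ^ p = 1 := by
    rintro ⟨_, y, hy, rfl⟩
    exact Subtype.ext (by show (y : G) ^ p = 1; rw [← SubgroupClass.coe_pow, hDexp y hy]; rfl)
  have hrU : Cfsg.PRankLE p 2 U := pRankLE_of_injective (inclusion hUP) (inclusion_injective _) hr
  obtain ⟨k, hk, hkc⟩ := frattini_quotient_small hUp hrU hexpU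
  haveI := Cfsg.Lib.PGroups.isMulCommutative_quotient_frattini hUp
  letI : CommGroup (U ⧸ frattini U) :=
    { (inferInstance : Group (U ⧸ frattini U)) with mul_comm := mul_comm' }
  let φ : A →* MulAut (U ⧸ frattini U) := (frattiniAction U).comp (inclusion hAU)
  have hkill : ∀ c : A, (c : G) ∈ centralizer (P : Set G) → φ c = 1 := fun c hc => by
    refine MulEquiv.ext fun y => ?_
    obtain ⟨⟨y, hy⟩, rfl⟩ := QuotientGroup.mk_surjective y
    show QuotientGroup.mk (U.normalizerMonoidHom _ (⟨y, hy⟩ : U)) = QuotientGroup.mk (⟨y, hy⟩ : U)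
    refine congrArg _ (Subtype.ext ?_)
    show (c : G) * y * (c : G)⁻¹ = y
    rw [← mem_centralizer_iff.mp hc y (hUP hy), mul_inv_cancel_right]
  have hker : φ.ker ≤ (A ⊓ centralizer (P : Set G)).subgroupOf A := by
    intro a ha
    refine ⟨a.2, ?_⟩
    have hK : φ.ker.map A.subtype ≤ A := map_subtype_le _
    have hKc : (Nat.card ↥(φ.ker.map A.subtype)).Coprime p :=
      hcop.coprime_dvd_left (card_dvd_of_le hK)
    refine hD (φ.ker.map A.subtype) (hK.trans hA) hKc ?_ (mem_map_of_mem A.subtype ha)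
    refine le_centralizer_of_frattiniAction hUp hKc (hK.trans hAU) fun b hb => ?_
    obtain ⟨c, hc, hcb⟩ := hb
    rw [show b = inclusion hAU c from Subtype.ext hcb.symm]
    exact hc
  have hcomm' : IsMulCommutative φ.range := ⟨⟨by
    rintro ⟨_, a, rfl⟩ ⟨_, b, rfl⟩
    refine Subtype.ext ?_
    show φ a * φ b = φ b * φ a
    have := hkill (a * b * a⁻¹ * b⁻¹) (hcomm a a.2 b b.2)
    rwa [map_mul, map_mul, map_mul, map_inv, map_inv, mul_inv_eq_one, mul_inv_eq_iff_eq_mul] at this⟩⟩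
  have h2 := card_le_sq (Fact.out : p.Prime) hq hqp (Cfsg.Lib.PGroups.pow_prime_quotient_frattini hUp) hk hkc
    φ.range hcomm' (by rintro _ ⟨a, rfl⟩; rw [← map_pow]; exact hkill _ (hexp a a.2))
  have h4 : (A ⊓ centralizer (P : Set G)).relIndex A ≤ φ.ker.index :=
    Nat.le_of_dvd (Nat.pos_of_ne_zero Subgroup.index_ne_zero_of_finite) (Subgroup.index_dvd_of_le hker)
  rw [index_ker] at h4
  have := Nat.pow_lt_pow_right hq.one_lt (show 2 < 3 by norm_num)
  omega

/-- three commuting moving pairs force rank three -/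
theorem no_three {p q : ℕ} [Fact p.Prime] (hp2 : p ≠ 2) (hq : q.Prime) (hqp : q ≠ p) {Y : Type u} [Group Y]
    (hr : Cfsg.PRankLE p 2 G) (π : G →* Y) (hπ : Function.Surjective π)
    (Q : Fin 3 → Subgroup Y) (a : Fin 3 → Y) (hQ : ∀ i, IsPGroup p (Q i))
    (hn : ∀ i, a i ∈ normalizer (Q i : Set Y)) (hord : ∀ i, ∃ k, a i ^ q ^ k = 1)
    (hpow : ∀ i, a i ^ q ∈ centralizer (Q i : Set Y)) (hne : ∀ i, a i ∉ centralizer (Q i : Set Y))
    (hQQ : ∀ i j, i ≠ j → Q i ≤ centralizer (Q j : Set Y))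
    (haQ : ∀ i j, i ≠ j → a i ∈ centralizer (Q j : Set Y))
    (haa : ∀ i j, a i * a j = a j * a i) : False := by
  haveI : Fact q.Prime := ⟨hq⟩
  haveI : Finite Y := Finite.of_surjective π hπ
  have hanorm : ∀ i j, a i ∈ normalizer (Q j : Set Y) := fun i j => by
    rcases eq_or_ne i j with rfl | h
    · exact hn i
    · exact centralizer_le_normalizer _ (haQ i j h)
  have hQn : ∀ i j, Q i ≤ normalizer (Q j : Set Y) := fun i j => by
    rcases eq_or_ne i j with rfl | h
    · exact le_normalizer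
    · exact (hQQ i j h).trans (centralizer_le_normalizer _)
  set Pb := Q 0 ⊔ Q 1 ⊔ Q 2 with hPbdef
  have hQP : ∀ i, Q i ≤ Pb := by
    intro i
    fin_cases i
    · exact le_sup_left.trans le_sup_left
    · exact le_sup_right.trans le_sup_left
    · exact le_sup_right
  have hPb : IsPGroup p Pb :=
    ((hQ 0).to_sup_of_normal_right' (hQ 1) (hQn 0 1)).to_sup_of_normal_right' (hQ 2) (sup_le (hQn 0 2) (hQn 1 2))
  set Ab := closure (Set.range a) with hAbdef
  haveI hAc : IsMulCommutative Ab := isMulCommutative_closure (by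
    rintro _ ⟨i, rfl⟩ _ ⟨j, rfl⟩
    exact haa i j)
  have hAq : IsPGroup q Ab := by
    rintro ⟨x, hx⟩
    induction hx using closure_induction with
    | mem x hx =>
      obtain ⟨i, rfl⟩ := hx
      obtain ⟨k, hk⟩ := hord i
      exact ⟨k, Subtype.ext hk⟩
    | one => exact ⟨0, Subtype.ext (by simp)⟩
    | mul x y hx hy ihx ihy =>
      obtain ⟨k, hk⟩ := ihx
      obtain ⟨l, hl⟩ := ihy
      refine ⟨k + l, ?_⟩
      rw [show (⟨x * y, mul_mem hx hy⟩ : Ab) = ⟨x, hx⟩ * ⟨y, hy⟩ from rfl,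
        (show Commute (⟨x, hx⟩ : Ab) ⟨y, hy⟩ from mul_comm' _ _).mul_pow, pow_add, pow_mul, hk, one_pow, one_mul,
        mul_comm (q ^ k), pow_mul, hl, one_pow]
    | inv x hx ihx =>
      obtain ⟨k, hk⟩ := ihx
      exact ⟨k, by rw [show (⟨x⁻¹, inv_mem hx⟩ : Ab) = (⟨x, hx⟩ : Ab)⁻¹ from rfl, inv_pow, hk, inv_one]⟩
  have hAP : Ab ≤ normalizer (Pb : Set Y) := (closure_le _).2 (by
    rintro _ ⟨i, rfl⟩
    exact Cfsg.Lib.Coprime.le_normalizer_sup (H := zpowers (a i)) (Cfsg.Lib.Coprime.le_normalizer_sup (zpowers_le.2 (hanorm i 0))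
      (zpowers_le.2 (hanorm i 1))) (zpowers_le.2 (hanorm i 2)) (mem_zpowers _))
  have hpowC : ∀ i, a i ^ q ∈ centralizer (Pb : Set Y) := fun i => by
    have h1 : ∀ j, Q j ≤ centralizer ({a i ^ q} : Set Y) := fun j x hx => by
      rw [mem_centralizer_singleton_iff]
      rcases eq_or_ne i j with rfl | h
      · exact mem_centralizer_iff.1 (hpow i) x hx
      · exact mem_centralizer_iff.1 (pow_mem (haQ i j h) q) x hx
    exact mem_centralizer_iff.2 fun x hx =>
      mem_centralizer_singleton_iff.1 ((sup_le (sup_le (h1 0) (h1 1)) (h1 2) : Pb ≤ _) hx)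
  -- lift
  set X := Pb.comap π with hX
  obtain ⟨S⟩ := (inferInstance : Nonempty (Sylow p X))
  set P := (S : Subgroup X).map X.subtype with hPdef
  have hPp : IsPGroup p P := S.2.map _
  have hPX : P ≤ X := map_subtype_le _
  let πX : X →* Pb := (π.comp X.subtype).codRestrict Pb fun x => x.2
  have hπX : Function.Surjective πX := fun y => by
    obtain ⟨x, hx⟩ := hπ y
    exact ⟨⟨x, show π x ∈ Pb by rw [hx]; exact y.2⟩, Subtype.ext hx⟩
  have hSmap : (S : Subgroup X).map πX = ⊤ := by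
    have h1 := (S.mapSurjective hπX).3 (Q := (⊤ : Subgroup Pb)) (hPb.to_subgroup ⊤) le_top
    rw [← Sylow.coe_mapSurjective hπX S, ← h1]
  have hPmap : P.map π = Pb := by
    refine le_antisymm ((Subgroup.map_mono hPX).trans (map_comap_le _ _)) fun y hy => ?_
    obtain ⟨x, hx, hxy⟩ := (hSmap.ge (mem_top (⟨y, hy⟩ : Pb)) : (⟨y, hy⟩ : Pb) ∈ (S : Subgroup X).map πX)
    exact ⟨x, mem_map_of_mem X.subtype hx, congrArg Subtype.val hxy⟩
  set D := normalizer (P : Set G) ⊓ Ab.comap π with hD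
  have hDmap : ∀ y ∈ Ab, ∃ d ∈ D, π d = y := by
    intro y hy
    obtain ⟨d, rfl⟩ := hπ y
    have hdX : d ∈ normalizer (X : Set G) := mem_normalizer_iff.2 fun x => by
      show π x ∈ Pb ↔ π (d * x * d⁻¹) ∈ Pb
      rw [map_mul, map_mul, map_inv]
      exact mem_normalizer_iff.1 (hAP hy) (π x)
    have hle : Cfsg.Lib.Coprime.conjMap d P ≤ X := by
      have := Cfsg.Lib.Coprime.conjMap_mono (g := d) hPX
      rwa [Cfsg.Lib.Coprime.conjMap_eq_self hdX] at this
    obtain ⟨x, hx⟩ := MulAction.exists_smul_eq X S (Sylow.ofCard ((Cfsg.Lib.Coprime.conjMap d P).subgroupOf X) (by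
      rw [Nat.card_congr (subgroupOfEquivOfLe hle).toEquiv, Cfsg.Lib.Coprime.card_conjMap, hPdef,
        card_map_of_injective X.subtype_injective, S.card_eq_multiplicity]))
    have h2 : Cfsg.Lib.Coprime.conjMap (x : G) P = Cfsg.Lib.Coprime.conjMap d P := by
      rw [hPdef, ← Cfsg.Lib.Coprime.map_subtype_smul, hx, Sylow.coe_ofCard, map_subgroupOf_eq_of_le hle]
    obtain ⟨s, hs, hsx⟩ := (hSmap.ge (mem_top (πX x)) : πX x ∈ (S : Subgroup X).map πX)
    -- adjust by an element of `P`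
    refine ⟨(s : G) * ((x : G)⁻¹ * d), ⟨?_, ?_⟩, ?_⟩
    · refine mul_mem (le_normalizer (mem_map_of_mem X.subtype hs)) ?_
      show (x : G)⁻¹ * d ∈ normalizer (P : Set G)
      rw [← Cfsg.Lib.Coprime.conjMap_eq_self_iff, ← Cfsg.Lib.Coprime.conjMap_mul, ← h2,
        Cfsg.Lib.Coprime.conjMap_inv_conjMap]
    · show π ((s : G) * ((x : G)⁻¹ * d)) ∈ Ab
      rw [map_mul, map_mul, map_inv, show π (s : G) = π (x : G) from congrArg Subtype.val hsx, mul_inv_cancel_left]
      exact hy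
    · rw [map_mul, map_mul, map_inv, show π (s : G) = π (x : G) from congrArg Subtype.val hsx, mul_inv_cancel_left]
  obtain ⟨T⟩ := (inferInstance : Nonempty (Sylow q D))
  set A := (T : Subgroup D).map D.subtype with hAdef
  have hAD : A ≤ D := map_subtype_le _
  have hAqG : IsPGroup q A := T.2.map _
  let πD : D →* Ab := (π.comp D.subtype).codRestrict Ab fun x => x.2.2
  have hπD : Function.Surjective πD := fun y => by
    obtain ⟨d, hd, hdy⟩ := hDmap y y.2
    exact ⟨⟨d, hd⟩, Subtype.ext hdy⟩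
  have hlift : ∀ i, ∃ t ∈ A, π t = a i := fun i => by
    have h1 := (T.mapSurjective hπD).3 (Q := (⊤ : Subgroup Ab)) (hAq.to_subgroup ⊤) le_top
    have h2 : (T : Subgroup D).map πD = ⊤ := by rw [← Sylow.coe_mapSurjective hπD T, ← h1]
    obtain ⟨t, ht, hty⟩ := (h2.ge (mem_top (⟨a i, subset_closure ⟨i, rfl⟩⟩ : Ab)) :
      (⟨a i, subset_closure ⟨i, rfl⟩⟩ : Ab) ∈ (T : Subgroup D).map πD)
    exact ⟨t, mem_map_of_mem D.subtype ht, congrArg Subtype.val hty⟩
  set Z := A ⊓ (centralizer (Pb : Set Y)).comap π with hZ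
  set P' := P ⊓ centralizer (Z : Set G) with hP'
  have hcopA : (Nat.card A).Coprime p := by
    obtain ⟨n, hn'⟩ := IsPGroup.iff_card.1 hAqG
    rw [hn']
    exact ((Nat.coprime_primes hq Fact.out).2 hqp).pow_left n
  have hAnP : A ≤ normalizer (P : Set G) := hAD.trans inf_le_left
  have hAnZ : A ≤ normalizer (Z : Set G) :=
    Cfsg.Lib.Coprime.le_normalizer_inf le_normalizer fun t ht => mem_normalizer_iff.2 fun x => by
      show π x ∈ centralizer (Pb : Set Y) ↔ π (t * x * t⁻¹) ∈ centralizer (Pb : Set Y)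
      rw [map_mul, map_mul, map_inv]
      exact mem_normalizer_iff.1
        (Cfsg.Lib.Components.normalizer_le_normalizer_centralizer' Pb (hAP (hAD ht).2)) (π x)
  have hAnP' : A ≤ normalizer (P' : Set G) :=
    Cfsg.Lib.Coprime.le_normalizer_inf hAnP (hAnZ.trans (Cfsg.Lib.Components.normalizer_le_normalizer_centralizer' Z))
  have hP'map : ∀ y ∈ Pb, ∃ x ∈ P', π x = y := by
    intro y hy
    obtain ⟨x, hx, rfl⟩ := (hPmap.ge hy : y ∈ P.map π)
    obtain ⟨n, hn', hc⟩ := Cfsg.Lib.Coprime.exists_fixed_in_coset (A := Z) (D := P ⊓ π.ker) (k := x)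
      (Cfsg.Lib.Coprime.le_normalizer_inf (inf_le_left.trans hAnP) (fun g _ => by rw [normalizer_eq_top]; exact mem_top _))
      (by
        obtain ⟨n, hn'⟩ := IsPGroup.iff_card.1 (hPp.to_le (inf_le_left : P ⊓ π.ker ≤ P))
        rw [hn']
        exact ((hcopA.coprime_dvd_left (card_dvd_of_le inf_le_left)).pow_right n))
      (Or.inl (by haveI := (hAqG.to_le (inf_le_left : Z ≤ A)).isNilpotent; infer_instance))
      (fun t ht => ⟨by
        rw [show x⁻¹ * t * x * t⁻¹ = x⁻¹ * (t * x * t⁻¹) by group]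
        exact mul_mem (Subgroup.inv_mem _ hx) ((mem_normalizer_iff.1 (hAnP ht.1) x).1 hx), by
        show π _ = 1
        rw [map_mul, map_mul, map_mul, map_inv, map_inv, mul_assoc (π x)⁻¹,
          ← mem_centralizer_iff.1 ht.2 (π x) (hPmap.le (mem_map_of_mem π hx))]
        group⟩)
    exact ⟨x * n, ⟨mul_mem hx hn'.1, hc⟩, by rw [map_mul, show π n = 1 from hn'.2, mul_one]⟩
  have hsubC : ∀ t ∈ A, π t ∈ centralizer (Pb : Set Y) → t ∈ centralizer (P' : Set G) := fun t ht htc =>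
    mem_centralizer_iff.2 fun x hx => (mem_centralizer_iff.1 hx.2 t ⟨ht, htc⟩).symm
  have hCsub : ∀ t ∈ A, t ∈ centralizer (P' : Set G) → π t ∈ centralizer (Pb : Set Y) := fun t _ htc =>
    mem_centralizer_iff.2 fun y hy => by
      obtain ⟨x, hx, rfl⟩ := hP'map y hy
      rw [← map_mul, ← map_mul, mem_centralizer_iff.1 htc x hx]
  refine no_cube hp2 hq hqp (hPp.to_le inf_le_left) (P := P')
    (pRankLE_of_injective P'.subtype P'.subtype_injective hr) hAnP' hcopA ?_ ?_ ?_
  · intro s hs t ht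
    refine hsubC _ (mul_mem (mul_mem (mul_mem hs ht) (Subgroup.inv_mem _ hs)) (Subgroup.inv_mem _ ht)) ?_
    rw [map_mul, map_mul, map_mul, map_inv, map_inv,
      congrArg Subtype.val (hAc.is_comm.comm ⟨π s, (hAD hs).2⟩ ⟨π t, (hAD ht).2⟩) |>
        fun e => (show π s * π t = π t * π s from e)]
    group
    exact one_mem _
  · intro t ht
    refine hsubC _ (pow_mem ht q) ?_
    rw [map_pow]
    have key : ∀ y ∈ Ab, y ^ q ∈ centralizer (Pb : Set Y) := fun y hy => by
      induction hy using closure_induction with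
      | mem y hy => obtain ⟨i, rfl⟩ := hy; exact hpowC i
      | one => rw [one_pow]; exact one_mem _
      | mul y z hy hz ihy ihz =>
        rw [(show Commute y z from congrArg Subtype.val (hAc.is_comm.comm ⟨y, hy⟩ ⟨z, hz⟩)).mul_pow]
        exact mul_mem ihy ihz
      | inv y hy ih => rw [inv_pow]; exact inv_mem ih
    exact key _ (hAD ht).2
  · choose t ht hta using hlift
    let e : Fin q × Fin q × Fin q → A := fun n =>
      ⟨t 0 ^ (n.1 : ℕ) * t 1 ^ (n.2.1 : ℕ) * t 2 ^ (n.2.2 : ℕ),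
        mul_mem (mul_mem (pow_mem (ht 0) _) (pow_mem (ht 1) _)) (pow_mem (ht 2) _)⟩
    let ec : Fin q × Fin q × Fin q → A ⧸ (A ⊓ centralizer (P' : Set G)).subgroupOf A :=
      fun n => (e n : A ⧸ _)
    have hinj : Function.Injective ec := by
      intro m n h
      have h1 := ((QuotientGroup.eq).1 h).2
      have h2 := hCsub _ ((e m)⁻¹ * e n).2 h1
      have hAct : ∀ (i : Fin 3) (x y z : ℕ) (x' y' z' : ℕ),
          (a 0 ^ x * a 1 ^ y * a 2 ^ z)⁻¹ * (a 0 ^ x' * a 1 ^ y' * a 2 ^ z') ∈ centralizer (Pb : Set Y) →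
          ∀ v w : ℕ, v < q → w < q → (i = 0 ∧ v = x ∧ w = x' ∨ i = 1 ∧ v = y ∧ w = y' ∨ i = 2 ∧ v = z ∧ w = z') →
          v = w := by
        intro i x y z x' y' z' hc v w hv hw hsel
        -- restrict to `Q i`
        have hcQ : (a 0 ^ x * a 1 ^ y * a 2 ^ z)⁻¹ * (a 0 ^ x' * a 1 ^ y' * a 2 ^ z') ∈
            centralizer (Q i : Set Y) := centralizer_le (hQP i) hc
        have hdiff : (a i ^ v)⁻¹ * a i ^ w ∈ centralizer (Q i : Set Y) := by
          have hc' := hcQ
          have ca : ∀ j k, Commute (a j) (a k) := fun j k => haa j k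
          rw [show (a 0 ^ x * a 1 ^ y * a 2 ^ z)⁻¹ * (a 0 ^ x' * a 1 ^ y' * a 2 ^ z') =
            ((a 0 ^ x)⁻¹ * a 0 ^ x') * ((a 1 ^ y)⁻¹ * a 1 ^ y') * ((a 2 ^ z)⁻¹ * a 2 ^ z') by
              rw [mul_inv_rev, mul_inv_rev]
              have h01 : Commute (a 1 ^ y)⁻¹ ((a 0 ^ x)⁻¹ * a 0 ^ x') :=
                (((ca 1 0).pow_pow y x).inv_left.inv_right).mul_right ((ca 1 0).pow_pow y x').inv_left
              have h2 : Commute (a 2 ^ z)⁻¹ (((a 0 ^ x)⁻¹ * a 0 ^ x') * ((a 1 ^ y)⁻¹ * a 1 ^ y')) :=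
                ((((ca 2 0).pow_pow z x).inv_left.inv_right).mul_right ((ca 2 0).pow_pow z x').inv_left).mul_right
                  ((((ca 2 1).pow_pow z y).inv_left.inv_right).mul_right ((ca 2 1).pow_pow z y').inv_left)
              calc (a 2 ^ z)⁻¹ * ((a 1 ^ y)⁻¹ * (a 0 ^ x)⁻¹) * (a 0 ^ x' * a 1 ^ y' * a 2 ^ z')
                  = (a 2 ^ z)⁻¹ * ((a 1 ^ y)⁻¹ * ((a 0 ^ x)⁻¹ * a 0 ^ x')) * (a 1 ^ y' * a 2 ^ z') := by group
                _ = (a 2 ^ z)⁻¹ * (((a 0 ^ x)⁻¹ * a 0 ^ x') * (a 1 ^ y)⁻¹) * (a 1 ^ y' * a 2 ^ z') := by rw [h01.eq]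
                _ = ((a 2 ^ z)⁻¹ * (((a 0 ^ x)⁻¹ * a 0 ^ x') * ((a 1 ^ y)⁻¹ * a 1 ^ y'))) * a 2 ^ z' := by group
                _ = _ := by rw [h2.eq]; group] at hc'
          have hz : ∀ j, j ≠ i → ∀ s s' : ℕ, (a j ^ s)⁻¹ * a j ^ s' ∈ centralizer (Q i : Set Y) :=
            fun j hj s s' => mul_mem (inv_mem (pow_mem (haQ j i hj) _)) (pow_mem (haQ j i hj) _)
          rcases hsel with ⟨rfl, rfl, rfl⟩ | ⟨rfl, rfl, rfl⟩ | ⟨rfl, rfl, rfl⟩
          · exact (Subgroup.mul_mem_cancel_right _ (hz 1 (by decide) _ _)).1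
              ((Subgroup.mul_mem_cancel_right _ (hz 2 (by decide) _ _)).1 hc')
          · exact (Subgroup.mul_mem_cancel_left _ (hz 0 (by decide) _ _)).1
              ((Subgroup.mul_mem_cancel_right _ (hz 2 (by decide) _ _)).1 hc')
          · exact (Subgroup.mul_mem_cancel_left _
              (mul_mem (hz 0 (by decide) _ _) (hz 1 (by decide) _ _))).1 hc'
        by_contra hvw
        apply hne i
        have hz' : a i ^ ((w : ℤ) - v) ∈ centralizer (Q i : Set Y) := by
          rwa [sub_eq_neg_add, zpow_add, zpow_neg, zpow_natCast, zpow_natCast]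
        have hcop : IsCoprime ((w : ℤ) - v) (q : ℤ) := by
          refine ((Int.prime_iff_natAbs_prime (k := (q : ℤ))).2 (by simpa using hq)).coprime_iff_not_dvd.2
            (fun hd => hvw ?_) |>.symm
          have := Int.eq_zero_of_abs_lt_dvd hd (by rw [abs_lt]; omega)
          omega
        obtain ⟨s, u', hsu⟩ := hcop
        have e1 : a i = (a i ^ ((w : ℤ) - v)) ^ s * (a i ^ (q : ℤ)) ^ u' := by
          rw [← zpow_mul, ← zpow_mul, ← zpow_add, mul_comm _ s, mul_comm _ u', hsu, zpow_one]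
        rw [e1]
        exact mul_mem (zpow_mem hz' _) (zpow_mem (by rw [zpow_natCast]; exact hpow i) _)
      have h3 : (a 0 ^ (m.1 : ℕ) * a 1 ^ (m.2.1 : ℕ) * a 2 ^ (m.2.2 : ℕ))⁻¹ *
          (a 0 ^ (n.1 : ℕ) * a 1 ^ (n.2.1 : ℕ) * a 2 ^ (n.2.2 : ℕ)) ∈ centralizer (Pb : Set Y) := by
        simpa [e, map_mul, map_inv, map_pow, hta] using h2
      exact Prod.ext (Fin.ext (hAct 0 _ _ _ _ _ _ h3 _ _ m.1.2 n.1.2 (Or.inl ⟨rfl, rfl, rfl⟩)))
        (Prod.ext (Fin.ext (hAct 1 _ _ _ _ _ _ h3 _ _ m.2.1.2 n.2.1.2 (Or.inr (Or.inl ⟨rfl, rfl, rfl⟩))))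
          (Fin.ext (hAct 2 _ _ _ _ _ _ h3 _ _ m.2.2.2 n.2.2.2 (Or.inr (Or.inr ⟨rfl, rfl, rfl⟩)))))
    have hcard := Nat.card_le_card_of_injective ec hinj
    rw [← index_eq_card] at hcard
    refine le_trans (le_of_eq ?_) hcard
    simp only [Nat.card_prod, Nat.card_fin]
    ring

/-- a nonabelian simple group has a moved `p`-subgroup for each odd prime divisor of its order -/
theorem exists_moving {S : Type u} [Group S] [Finite S] [IsSimpleGroup S] (hna : ¬ IsMulCommutative S)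
    {p : ℕ} [Fact p.Prime] (hdvd : p ∣ Nat.card S) :
    ∃ (Q : Subgroup S) (a : S) (q : ℕ), q.Prime ∧ q ≠ p ∧ IsPGroup p Q ∧ a ∈ normalizer (Q : Set S) ∧
      (∃ k, a ^ q ^ k = 1) ∧ a ^ q ∈ centralizer (Q : Set S) ∧ a ∉ centralizer (Q : Set S) := by
  obtain ⟨P⟩ := (inferInstance : Nonempty (Sylow p S))
  have hno : ¬ ∃ N : Subgroup S, N.Normal ∧ N.IsComplement' (P : Subgroup S) := by
    rintro ⟨N, hN, hc⟩
    rcases hN.eq_bot_or_eq_top with rfl | rfl
    · have htop : (P : Subgroup S) = ⊤ := isComplement'_bot_left.1 hc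
      have hS : IsPGroup p S := fun x => by
        obtain ⟨k, hk⟩ := P.2 ⟨x, htop ▸ mem_top x⟩
        exact ⟨k, congrArg Subtype.val hk⟩
      haveI := hS.isNilpotent
      exact hna ⟨⟨(IsSimpleGroup.comm_iff_isSolvable (G := S)).2 inferInstance⟩⟩
    · have hbot : (P : Subgroup S) = ⊥ := isComplement'_top_left.1 hc
      exact P.ne_bot_of_dvd_card hdvd hbot
  rw [Cfsg.Agent.S0071.result P] at hno
  push Not at hno
  obtain ⟨Q, hQP, g, hg, hgp, hgc⟩ := hno
  obtain ⟨b, ⟨hb, hbp, hbc⟩, hmin⟩ := Set.exists_min_image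
    {x : S | x ∈ normalizer (Q : Set S) ∧ (orderOf x).Coprime p ∧ x ∉ centralizer (Q : Set S)} orderOf
    (Set.toFinite _) ⟨g, hg, hgp, hgc⟩
  have hb1 : orderOf b ≠ 1 := fun h => hbc (by rw [orderOf_eq_one_iff.mp h]; exact one_mem _)
  set q := (orderOf b).minFac with hqdef
  have hq : q.Prime := Nat.minFac_prime hb1
  have hqd : q ∣ orderOf b := Nat.minFac_dvd _
  have hqp : q ≠ p := fun h => (Fact.out : p.Prime).ne_one (Nat.eq_one_of_dvd_coprimes hbp (h ▸ hqd) dvd_rfl)
  have hbq : b ^ q ∈ centralizer (Q : Set S) := by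
    by_contra h
    have h1 := hmin _ ⟨pow_mem hb q, hbp.coprime_dvd_left (orderOf_pow_dvd q), h⟩
    rw [orderOf_pow_of_dvd hq.ne_zero hqd] at h1
    exact absurd h1 (not_le.mpr (Nat.div_lt_self (orderOf_pos b) hq.one_lt))
  set m := orderOf b / q ^ (orderOf b).factorization q with hm
  refine ⟨Q, b ^ m, q, hq, hqp, P.2.to_le hQP, pow_mem hb m, ⟨(orderOf b).factorization q, ?_⟩, ?_, ?_⟩
  · rw [← pow_mul, hm, Nat.div_mul_cancel (Nat.ordProj_dvd _ _), pow_orderOf_eq_one]
  · rw [← pow_mul, mul_comm, pow_mul]; exact pow_mem hbq m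
  · intro hc
    apply hbc
    have hcop : Nat.Coprime m q := (Nat.coprime_ordCompl hq (orderOf_pos b).ne').symm
    obtain ⟨s, t, hst⟩ := Int.isCoprime_iff_gcd_eq_one.2 (by rw [Int.gcd_natCast_natCast]; exact hcop)
    have e : b = (b ^ m) ^ s * (b ^ q) ^ t := by
      rw [← zpow_natCast b m, ← zpow_natCast b q, ← zpow_mul, ← zpow_mul, ← zpow_add, mul_comm (m : ℤ),
        mul_comm (q : ℤ), hst, zpow_one]
    rw [e]
    exact mul_mem (zpow_mem hc s) (zpow_mem hbq t)

end Cfsg.Lib.QTUniq
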