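import Cfsg.Agent.QTKE.Uniq.Core
import Cfsg.Agent.QTKE.Uniq.BMRank
import Cfsg.Agent.Components.CharP
import Cfsg.Agent.Components.Misc.KSections
import Cfsg.Agent.JComp.Basic
import Cfsg.Prelude.Def_Quasithin

/-!
Maximal members of `ℒ(G, T)` in a simple QTKE-group give uniqueness subgroups.
-/

set_option autoImplicit false
set_option linter.unusedSectionVars false
set_option linter.style.haveILetI false

namespace Cfsg.Lib.QTUniq

open Subgroup Cfsg.Lib.Components
open scoped commutatorElement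

universe u

variable {G : Type u} [Group G]

/-- minimal perfect subgroups stay minimal in an intermediate subgroup -/
theorem minPerf_subgroupOf {A B : Subgroup G} (hAB : A ≤ B) (h : MinPerf A) : MinPerf (A.subgroupOf B) := by
  refine ⟨fun e => h.ne ?_, ?_, fun K hK hKs hKp => ?_⟩
  · rw [← map_subgroupOf_eq_of_le hAB, e, Subgroup.map_bot]
  · apply Subgroup.map_injective B.subtype_injective
    rw [map_commutator, map_subgroupOf_eq_of_le hAB, h.perfect]
  · have hK' : K.map B.subtype ≤ A := by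
      rw [← map_subgroupOf_eq_of_le hAB]; exact Subgroup.map_mono hK
    have hKs' : ((K.map B.subtype).subgroupOf A).IsSubnormal := by
      have := hKs.comap (subgroupOfEquivOfLe hAB).symm.toMonoidHom
      have e : (K.subgroupOf (A.subgroupOf B)).comap
          (subgroupOfEquivOfLe hAB).symm.toMonoidHom = (K.map B.subtype).subgroupOf A := by
        ext x
        constructor
        · intro h; exact ⟨_, h, rfl⟩
        · rintro ⟨y, hy, e⟩
          show ((subgroupOfEquivOfLe hAB).symm x : B) ∈ K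
          rwa [show ((subgroupOfEquivOfLe hAB).symm x : B) = y from Subtype.ext (e.symm : _)]
      rwa [e] at this
    rcases h.min _ hK' hKs' (Cfsg.Lib.CoprimeLayer.perfect_map _ hKp) with h' | h'
    · exact Or.inl ((map_eq_bot_iff_of_injective K B.subtype_injective).1 h')
    · exact Or.inr (Subgroup.map_injective B.subtype_injective (by rw [h', map_subgroupOf_eq_of_le hAB]))

theorem calC_iff {H : Type u} [Group H] {L : Subgroup H} : L ∈ Cfsg.calC H ↔ MinPerf L ∧ L.IsSubnormal := by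
  constructor
  · rintro ⟨hne, hp, hsn, hmin⟩
    refine ⟨⟨hne, hp, fun K hK hKs hKp => ?_⟩, hsn⟩
    by_contra h
    push Not at h
    refine hmin K (lt_of_le_of_ne hK h.2) ⟨h.1, hKp, ?_⟩
    have := isSubnormal_map_subtype hsn hKs
    rwa [map_subgroupOf_eq_of_le hK] at this
  · rintro ⟨h, hsn⟩
    refine ⟨h.ne, h.perfect, hsn, fun K hK ⟨hKne, hKp, hKs⟩ => ?_⟩
    rcases h.min K hK.le hKs.subgroupOf hKp with e | e
    · exact hKne e
    · exact hK.ne e

variable [Finite G] [IsSimpleGroup G]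

theorem twoLocal_ne_top (hG : ¬ IsMulCommutative G) {N : Subgroup G} (hN : Cfsg.IsTwoLocal N) : N ≠ ⊤ := by
  obtain ⟨P, hP, hne, rfl⟩ := hN
  intro h
  haveI : Fact (Nat.Prime 2) := ⟨Nat.prime_two⟩
  haveI hn : P.Normal := normalizer_eq_top_iff.1 h
  rcases hn.eq_bot_or_eq_top with e | e
  · exact hne e
  · haveI := hP.isNilpotent
    haveI : Group.IsSolvable G := isSolvable_of_equiv ((MulEquiv.subgroupCongr e).trans Subgroup.topEquiv) inferInstance
    exact hG ⟨⟨(IsSimpleGroup.comm_iff_isSolvable (G := G)).2 inferInstance⟩⟩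

theorem pCore_ne_bot_of_twoLocal {N : Subgroup G} (hN : Cfsg.IsTwoLocal N) : Cfsg.pCore 2 ↥N ≠ ⊥ := by
  obtain ⟨P, hP, hne, rfl⟩ := hN
  intro h
  have h1 := Cfsg.Lib.JComp.le_pCoreOf hP le_normalizer le_rfl
  rw [Cfsg.pCoreOf, h, Subgroup.map_bot, le_bot_iff] at h1
  exact hne h1

theorem exists_twoLocal_ge {H : Subgroup G} (h : Cfsg.pCore 2 ↥H ≠ ⊥) :
    ∃ N, Cfsg.IsTwoLocal N ∧ H ≤ N :=
  ⟨normalizer (Cfsg.pCoreOf 2 H : Set G), ⟨_, Cfsg.Lib.JComp.isPGroup_pCoreOf H,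
    fun e => h ((map_eq_bot_iff_of_injective _ H.subtype_injective).1 e), rfl⟩,
    le_normalizer.trans (Cfsg.Lib.JComp.normalizer_le_pCoreOf 2 H)⟩

theorem rank_le {hQT : Cfsg.IsQuasithin G} {H : Subgroup G} (h : Cfsg.pCore 2 ↥H ≠ ⊥) (p : ℕ) (hp : p.Prime)
    (hp2 : p ≠ 2) : Cfsg.PRankLE p 2 ↥H := by
  obtain ⟨N, hN, hHN⟩ := exists_twoLocal_ge h
  haveI := Fact.mk hp
  exact Cfsg.Lib.OddP.pRankLE_of_injective (inclusion hHN) (inclusion_injective hHN) (hQT p hp hp2 N hN)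

/-- the only use of the list of known simple groups -/
theorem out_solvable (hG : ¬ IsMulCommutative G) (hQ : Cfsg.IsQTKE G)
    (hOutK : ∀ (X : Type u) [Group X] [Finite X] [IsSimpleGroup X], ¬ IsMulCommutative X →
      Cfsg.IsKnownSimple' X → ¬ Cfsg.Spor.IsoB X → ¬ Cfsg.Spor.IsoM X → Group.IsSolvable (Cfsg.Out X))
    {H : Subgroup G} (h : Cfsg.pCore 2 ↥H ≠ ⊥) (R : Subgroup ↥H) [R.Normal] (S : Subgroup (↥H ⧸ R))
    (hR : RadFree (↥H ⧸ R)) (hS : Cfsg.IsComponent S) : Group.IsSolvable (Cfsg.Out S) := by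
  obtain ⟨hsimple, hna⟩ := hR.comp_simple hS
  haveI := hsimple
  obtain ⟨N, hN, hHN⟩ := exists_twoLocal_ge h
  have hH : H ≠ ⊤ := fun e => twoLocal_ne_top hG hN (top_le_iff.1 (e ▸ hHN))
  set π := QuotientGroup.mk' R
  let f : (S.comap π) →* S := π.subgroupComap S
  have hf : Function.Surjective f := fun y => by
    obtain ⟨x, hx⟩ := QuotientGroup.mk'_surjective R y.1
    exact ⟨⟨x, show π x ∈ S from hx ▸ y.2⟩, Subtype.ext hx⟩
  haveI : Fact (Nat.Prime 3) := ⟨Nat.prime_three⟩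
  have hno : ¬ HasThreeDihedral S := by
    rintro ⟨x, a, h1, h2, h3, h4, h5, h6, h7⟩
    exact no_three_dihedral (Cfsg.Lib.OddP.pRankLE_of_injective (S.comap π).subtype (subtype_injective _)
      (rank_le (hQT := hQ.1) h 3 Nat.prime_three (by norm_num))) f hf x a h1 h2 h3 h4 h5 h6 h7
  refine hOutK S hna (Cfsg.Lib.KSections.known_of_surjective hQ.2.1 hH hsimple hna (S.comap π) f hf) ?_ ?_
  · rintro ⟨e⟩
    exact hno (HasThreeDihedral.of_equiv e.symm (hasThree_baby fun hc =>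
      hna ⟨⟨fun a b => e.injective (by rw [map_mul, map_mul, hc.is_comm.comm])⟩⟩))
  · rintro ⟨e⟩
    exact hno (HasThreeDihedral.of_equiv e.symm (hasThree_monster fun hc =>
      hna ⟨⟨fun a b => e.injective (by rw [map_mul, map_mul, hc.is_comm.comm])⟩⟩))

section Main

variable (hG : ¬ IsMulCommutative G) (hQ : Cfsg.IsQTKE G)
  (hOutK : ∀ (X : Type u) [Group X] [Finite X] [IsSimpleGroup X], ¬ IsMulCommutative X →
    Cfsg.IsKnownSimple' X → ¬ Cfsg.Spor.IsoB X → ¬ Cfsg.Spor.IsoM X → Group.IsSolvable (Cfsg.Out X))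
  (T : Sylow 2 G) {L : Subgroup G} (hL : L ∈ Cfsg.calLMax (T : Subgroup G))

include hG hQ hOutK hL

theorem component_over {H : Subgroup G} (hH : H ∈ Cfsg.calHOver (L ⊔ (T : Subgroup G))) :
    L.subgroupOf H ∈ Cfsg.calC ↥H ∧ H ≤ normalizer (Cfsg.conjClosure L (T : Subgroup G) : Set G) := by
  classical
  haveI : Fact (Nat.Prime 2) := ⟨Nat.prime_two⟩
  obtain ⟨hcore, hle⟩ := hH
  obtain ⟨⟨hC, -, -⟩, hmax⟩ := hL
  have hLH : L ≤ H := le_sup_left.trans hle
  have hTH : (T : Subgroup G) ≤ H := le_sup_right.trans hle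
  obtain ⟨hM1, hsn1⟩ := calC_iff.1 hC
  set L0 := L.subgroupOf H with hL0
  let TH : Sylow 2 ↥H := T.subtype hTH
  have hTc : (TH : Subgroup ↥H) = (T : Subgroup G).subgroupOf H := Sylow.coe_subtype T hTH
  have hmp : MinPerf L0 := by
    have e : (L.subgroupOf (L ⊔ (T : Subgroup G))).map (inclusion hle) = L0 := by
      ext x
      constructor
      · rintro ⟨y, hy, rfl⟩; exact hy
      · intro hx; exact ⟨⟨x.1, mem_sup_left hx⟩, hx, Subtype.ext rfl⟩
    rw [← e]
    exact hM1.map _ fun he => hM1.ne ((map_eq_bot_iff_of_injective _ (inclusion_injective hle)).1 he)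
  have hsn : (L0.subgroupOf (L0 ⊔ (TH : Subgroup ↥H))).IsSubnormal := by
    have hsup : L0 ⊔ (TH : Subgroup ↥H) = (L ⊔ (T : Subgroup G)).subgroupOf H := by
      rw [hTc, subgroupOf_sup hLH hTH]
    let f : ↥(L0 ⊔ (TH : Subgroup ↥H)) →* ↥(L ⊔ (T : Subgroup G)) :=
      (H.subtype.comp (L0 ⊔ (TH : Subgroup ↥H)).subtype).codRestrict _ fun x => by
        exact mem_subgroupOf.1 (hsup.le x.2)
    exact hsn1.comap f
  obtain ⟨K, hLK, hK, hKsn, horb⟩ := exists_overgroup (rank_le (hQT := hQ.1) hcore)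
    (fun R _ S hR hS => out_solvable hG hQ hOutK hcore R S hR hS) TH hmp hsn
  set KG := K.map H.subtype with hKG
  have hKGH : KG ≤ H := map_subtype_le _
  have hLKG : L ≤ KG := by
    rw [← map_subgroupOf_eq_of_le hLH]; exact Subgroup.map_mono hLK
  have hKe : KG.subgroupOf H = K := comap_map_eq_self_of_injective H.subtype_injective K
  have hle' : KG ⊔ (T : Subgroup G) ≤ H := sup_le hKGH hTH
  have hKmem : KG ∈ Cfsg.calL (T : Subgroup G) := by
    refine ⟨calC_iff.2 ⟨minPerf_subgroupOf le_sup_left ?_, ?_⟩, ⟨T.subtype le_sup_right, Sylow.coe_subtype T _⟩, ?_⟩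
    · exact hK.map _ fun he => hK.ne ((map_eq_bot_iff_of_injective _ H.subtype_injective).1 he)
    · have e : KG.subgroupOf (KG ⊔ (T : Subgroup G)) = K.comap (inclusion hle') := by
        rw [← hKe]; ext x; rfl
      rw [e]
      exact hKsn.comap _
    · have hPT : Cfsg.pCoreOf 2 H ≤ (T : Subgroup G) := by
        have h1 := (Cfsg.Lib.Components.isPGroup_pCore (G := ↥H) 2).to_sup_of_normal_left TH.2
        have h2 := TH.3 h1 le_sup_right
        have h3 : Cfsg.pCore 2 ↥H ≤ (T : Subgroup G).subgroupOf H := by rw [← hTc, ← h2]; exact le_sup_left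
        exact (Subgroup.map_mono h3).trans (by rw [map_subgroupOf_eq_of_le hTH])
      intro he
      have h4 := Cfsg.Lib.JComp.le_pCoreOf (H := KG ⊔ (T : Subgroup G))
        (Cfsg.Lib.JComp.isPGroup_pCoreOf (p := 2) H) (hPT.trans le_sup_right)
        (hle'.trans (le_normalizer.trans (Cfsg.Lib.JComp.normalizer_le_pCoreOf 2 H)))
      rw [show Cfsg.pCoreOf 2 (KG ⊔ (T : Subgroup G)) = ⊥ by rw [Cfsg.pCoreOf, he, Subgroup.map_bot],
        le_bot_iff] at h4
      exact hcore ((map_eq_bot_iff_of_injective _ H.subtype_injective).1 h4)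
  have hKL : KG = L := hmax KG hKmem hLKG
  have hKL0 : K = L0 := by rw [← hKe, hKL]
  refine ⟨calC_iff.2 ⟨hmp, hKL0 ▸ hKsn⟩, ?_⟩
  rw [hKL0] at horb
  set N := normalizer (L0 : Set ↥H) with hN
  -- conjugation of `L0` outside the normaliser is constant
  have htwo : ∀ g g' : ↥H, g ∉ N → g' ∉ N → g⁻¹ * g' ∈ N := by
    intro g g' hg hg'
    obtain ⟨i, j, hij, he⟩ := horb ![1, g, g']
    rw [hN, ← Cfsg.Lib.Coprime.conjMap_eq_self_iff] at hg hg' ⊢
    have h1 : L0.map (MulAut.conj (1 : ↥H)).toMonoidHom = L0 := by ext x; simp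
    rw [Cfsg.Lib.Coprime.conjMap] at hg hg'
    have key : Cfsg.Lib.Coprime.conjMap g L0 = Cfsg.Lib.Coprime.conjMap g' L0 := by
      fin_cases i <;> fin_cases j <;> first | exact absurd rfl hij | skip
      · exact absurd (he.symm.trans h1) hg
      · exact absurd (he.symm.trans h1) hg'
      · exact absurd (he.trans h1) hg
      · exact he
      · exact absurd (he.trans h1) hg'
      · exact he.symm
    rw [← Cfsg.Lib.Coprime.conjMap_mul, ← key, Cfsg.Lib.Coprime.conjMap_inv_conjMap]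
  have hfac : ∀ g : ↥H, ∃ t ∈ (T : Subgroup G).subgroupOf H, t⁻¹ * g ∈ N := by
    intro g
    by_cases hg : g ∈ N
    · exact ⟨1, one_mem _, by simpa using hg⟩
    by_cases hT : (TH : Subgroup ↥H) ≤ N
    · exfalso
      refine TH.not_dvd_index (dvd_trans ?_ (index_dvd_of_le hT))
      refine dvd_of_eq (Eq.symm ?_)
      rw [index, Nat.card_eq_two_iff]
      refine ⟨((1 : ↥H) : ↥H ⧸ N), (g : ↥H ⧸ N), fun e => hg ?_, ?_⟩
      · simpa using QuotientGroup.eq.1 e
      · refine Set.eq_univ_of_forall fun x => ?_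
        obtain ⟨y, rfl⟩ := QuotientGroup.mk_surjective x
        by_cases hy : y ∈ N
        · exact Or.inl (QuotientGroup.eq.2 (by simpa using hy))
        · exact Or.inr (Set.mem_singleton_iff.2 (QuotientGroup.eq.2 (htwo y g hy hg)))
    · obtain ⟨t, ht, htN⟩ := SetLike.not_le_iff_exists.1 hT
      exact ⟨t, hTc ▸ ht, htwo t g htN hg⟩
  set LT := Cfsg.conjClosure L (T : Subgroup G) with hLT
  have hmap : ∀ g : G, g ∈ H → LT.map (MulAut.conj g).toMonoidHom ≤ LT := by
    intro g hg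
    rw [hLT, Cfsg.conjClosure, Subgroup.map_iSup]
    refine iSup_le fun t => ?_
    rw [Subgroup.map_map]
    obtain ⟨t', ht', hn⟩ := hfac (⟨g, hg⟩ * ⟨t, hTH t.2⟩)
    refine le_trans (le_of_eq ?_) (le_iSup _ (⟨(t' : G), mem_subgroupOf.1 ht'⟩ : (T : Subgroup G)))
    rw [← Cfsg.Lib.Coprime.conjMap, ← map_subgroupOf_eq_of_le hLH]
    have e := congrArg (Subgroup.map H.subtype)
      (congrArg (Cfsg.Lib.Coprime.conjMap t') (Cfsg.Lib.Coprime.conjMap_eq_self_iff.2 hn))
    rw [Cfsg.Lib.Coprime.conjMap_mul, mul_inv_cancel_left] at e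
    simp only [Cfsg.Lib.Coprime.conjMap, Subgroup.map_map] at e ⊢
    convert e using 2 <;> ext x <;> simp [mul_assoc]
  intro g hg
  rw [← Cfsg.Lib.Coprime.conjMap_eq_self_iff, Cfsg.Lib.Coprime.conjMap]
  refine le_antisymm (hmap g hg) fun x hx => ?_
  exact ⟨g⁻¹ * x * g, by simpa using hmap g⁻¹ (inv_mem hg) ⟨x, hx, rfl⟩, by simp [mul_assoc]⟩

theorem uniqueness :
    (∀ H ∈ Cfsg.calHOver (L ⊔ (T : Subgroup G)), L.subgroupOf H ∈ Cfsg.calC ↥H) ∧
    Cfsg.generalizedFittingSubgroup ↥L = Cfsg.pCore 2 ↥L ∧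
    Cfsg.maxTwoLocalsContaining (L ⊔ (T : Subgroup G)) =
      {Subgroup.normalizer (Cfsg.conjClosure L (T : Subgroup G) : Set G)} := by
  obtain ⟨hC, -, hcore⟩ := hL.1
  obtain ⟨hM1, hsn1⟩ := calC_iff.1 hC
  have part1 := fun H hH => (component_over hG hQ hOutK T hL (H := H) hH).1
  obtain ⟨N, hN, hle⟩ := exists_twoLocal_ge hcore
  have hNmem : N ∈ Cfsg.calHOver (L ⊔ (T : Subgroup G)) := ⟨pCore_ne_bot_of_twoLocal hN, hle⟩
  have part2 : Cfsg.generalizedFittingSubgroup ↥L = Cfsg.pCore 2 ↥L := by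
    refine charP_iff_genFitting.1 ?_
    have hLN : L ≤ N := le_sup_left.trans hle
    exact charP_congr (subgroupOfEquivOfLe hLN)
      (charP_subnormal (hQ.2.2 N hN ⟨T, le_sup_right.trans hle⟩) (calC_iff.1 (part1 N hNmem)).2)
  refine ⟨part1, part2, ?_⟩
  set LT := Cfsg.conjClosure L (T : Subgroup G) with hLT
  set N0 := normalizer (LT : Set G) with hN0
  have hall : ∀ H ∈ Cfsg.calHOver (L ⊔ (T : Subgroup G)), H ≤ N0 := fun H hH =>
    (component_over hG hQ hOutK T hL hH).2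
  have hO2L : Cfsg.pCore 2 ↥L ≠ ⊥ := by
    intro e
    haveI : Nontrivial L := (Subgroup.nontrivial_iff_ne_bot L).mpr fun h => hM1.ne (by simp [h])
    have h1 := centralizer_genFitting_le (G := ↥L)
    rw [part2, e, coe_bot, centralizer_eq_top_iff_subset.2 (by simp), top_le_iff] at h1
    exact bot_ne_top h1
  have hLLT : L ≤ LT := by
    refine le_trans (le_of_eq ?_) (le_iSup _ (1 : (T : Subgroup G)))
    ext x; simp
  have hLTle : LT ≤ L ⊔ (T : Subgroup G) := iSup_le fun t => by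
    rintro _ ⟨x, hx, rfl⟩
    exact mul_mem (mul_mem (mem_sup_right t.2) (mem_sup_left hx)) (inv_mem (mem_sup_right t.2))
  have hsnLT : (L.subgroupOf LT).IsSubnormal := by
    have := hsn1.comap (inclusion hLTle)
    exact this
  have hA : Cfsg.pCoreOf 2 L ≤ Cfsg.pCoreOf 2 LT :=
    Cfsg.Lib.JComp.le_pCoreOf_of_subnormal (Cfsg.Lib.JComp.isPGroup_pCoreOf L) ((map_subtype_le _).trans hLLT) (by
      have hn : ((Cfsg.pCore 2 ↥L).map (inclusion hLLT)).IsSubnormal := by
        have e : (Cfsg.pCore 2 ↥L).map (inclusion hLLT) =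
            ((Cfsg.pCore 2 ↥L).comap (subgroupOfEquivOfLe hLLT).toMonoidHom).map (L.subgroupOf LT).subtype := by
          ext x
          constructor
          · rintro ⟨y, hy, rfl⟩
            exact ⟨⟨inclusion hLLT y, y.2⟩, hy, rfl⟩
          · rintro ⟨y, hy, rfl⟩
            exact ⟨_, hy, Subtype.ext rfl⟩
        rw [e]
        refine isSubnormal_map_subtype hsnLT (Subgroup.Normal.isSubnormal ?_)
        haveI : (Cfsg.pCore 2 ↥L).Normal := inferInstance
        infer_instance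
      convert hn using 1
      ext x
      constructor
      · rintro ⟨y, hy, e⟩
        exact ⟨y, hy, Subtype.ext e⟩
      · rintro ⟨y, hy, rfl⟩
        exact ⟨y, hy, rfl⟩)
  have hne : Cfsg.pCoreOf 2 LT ≠ ⊥ := fun e => hO2L (by
    rw [e, le_bot_iff] at hA
    exact (map_eq_bot_iff_of_injective _ L.subtype_injective).1 hA)
  have hloc : Cfsg.IsTwoLocal (normalizer (Cfsg.pCoreOf 2 LT : Set G)) :=
    ⟨_, Cfsg.Lib.JComp.isPGroup_pCoreOf LT, hne, rfl⟩
  have hN0le : N0 ≤ normalizer (Cfsg.pCoreOf 2 LT : Set G) := Cfsg.Lib.JComp.normalizer_le_pCoreOf 2 LT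
  have hXN0 : L ⊔ (T : Subgroup G) ≤ N0 := hle.trans (hall N hNmem)
  have heq : normalizer (Cfsg.pCoreOf 2 LT : Set G) = N0 :=
    le_antisymm (hall _ ⟨pCore_ne_bot_of_twoLocal hloc, hXN0.trans hN0le⟩) hN0le
  have hmaxN0 : Cfsg.IsMaximalTwoLocal N0 := ⟨heq ▸ hloc, fun N' hN' h =>
    le_antisymm (hall N' ⟨pCore_ne_bot_of_twoLocal hN', hXN0.trans h⟩) h⟩
  refine Set.eq_singleton_iff_unique_mem.2 ⟨⟨hmaxN0, hXN0⟩, ?_⟩
  rintro M ⟨hM, hXM⟩
  exact (hM.2 N0 hmaxN0.1 (hall M ⟨pCore_ne_bot_of_twoLocal hM.1, hXM⟩)).symm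

end Main

end Cfsg.Lib.QTUniq
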