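import Cfsg.Agent.QTKE.Uniq.Orbit
import Cfsg.Agent.Components.Misc.Kieler
import Cfsg.Agent.OutSol.Residual
import Cfsg.Prelude.Def_KGroupFacts

/-!
A minimal perfect subgroup that is subnormal in the subgroup it generates with a Sylow `2`-subgroup
lies in a minimal perfect subnormal subgroup with at most two conjugates.
-/

set_option autoImplicit false
set_option linter.unusedSectionVars false
set_option linter.style.haveILetI false

namespace Cfsg.Lib.QTUniq

open Subgroup Cfsg.Lib.Components
open Cfsg.Lib.CoprimeLayer (perfCore perfCore_le perfCore_perfect le_perfCore perfect_map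
  exists_perfect_cover' normalizer_le_normalizer_perfCore eq_bot_of_perfect_solvable)
open scoped commutatorElement

universe u

variable {Y : Type u} [Group Y] [Finite Y]

theorem mulAut_finite (S : Type u) [Group S] [Finite S] : Finite (MulAut S) :=
  Finite.of_injective (fun e => (e : S → S)) DFunLike.coe_injective

/-- a perfect subgroup fixing all components acts by inner automorphisms -/
theorem le_layer_of_fixes (hY : RadFree Y)
    (hOut : ∀ S : Subgroup Y, Cfsg.IsComponent S → Group.IsSolvable (Cfsg.Out S))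
    {L : Subgroup Y} (hL : ⁅L, L⁆ = L)
    (hfix : ∀ S : Subgroup Y, Cfsg.IsComponent S → L ≤ normalizer (S : Set Y)) : L ≤ Cfsg.layer Y := by
  classical
  haveI : Group.IsPerfect L := isPerfect_subtype hL
  have hinner : ∀ S : Subgroup Y, Cfsg.IsComponent S → ∀ l ∈ L, ∃ x ∈ S, ∀ y ∈ S, l * y * l⁻¹ = x * y * x⁻¹ := by
    intro S hS l hl
    haveI := hOut S hS
    haveI := mulAut_finite S
    let ψ : L →* Cfsg.Out S := (QuotientGroup.mk' (Cfsg.Inn S)).comp
      (S.normalizerMonoidHom.comp (inclusion (hfix S hS)))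
    obtain ⟨x, hx⟩ := (QuotientGroup.eq_one_iff _).1 (Cfsg.Lib.OutSol.perfect_hom_trivial ψ ⟨l, hl⟩)
    exact ⟨x, x.2, fun y hy => (congrArg Subtype.val (MulEquiv.congr_fun hx ⟨y, hy⟩)).symm⟩
  obtain ⟨s0, hs0, hlayer⟩ := layer_eq_finset (G := Y)
  intro l hl
  have key : ∀ s : Finset (Subgroup Y), (∀ S ∈ s, Cfsg.IsComponent S) →
      ∃ e ∈ s.sup id, ∀ S ∈ s, ∀ y ∈ S, e⁻¹ * l * y * (e⁻¹ * l)⁻¹ = y := by
    intro s
    induction s using Finset.induction_on with
    | empty => intro _; exact ⟨1, one_mem _, by simp⟩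
    | insert S s hSs ih =>
      intro hc
      obtain ⟨e, he, hefix⟩ := ih fun T hT => hc T (Finset.mem_insert_of_mem hT)
      obtain ⟨x, hxS, hx⟩ := hinner S (hc S (Finset.mem_insert_self S s)) l hl
      have hST : ∀ T ∈ s, ∀ y ∈ T, ∀ z ∈ S, y * z = z * y := fun T hT y hy z hz =>
        mem_commute_of_disjoint (comp_commute (hc T (Finset.mem_insert_of_mem hT))
          (hc S (Finset.mem_insert_self S s)) (fun e => hSs (e ▸ hT))) hy hz
      have heS : ∀ z ∈ S, e * z = z * e := by
        have h1 : s.sup id ≤ centralizer (S : Set Y) := Finset.sup_le fun T hT y hy =>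
          mem_centralizer_iff.2 fun z hz => (hST T hT y hy z hz).symm
        exact fun z hz => (mem_centralizer_iff.1 (h1 he) z hz).symm
      refine ⟨e * x, ?_, fun T hT y hy => ?_⟩
      · rw [Finset.sup_insert]
        exact mul_mem (mem_sup_right he) (mem_sup_left hxS)
      rcases Finset.mem_insert.1 hT with rfl | hTs
      · rw [show (e * x)⁻¹ * l * y * ((e * x)⁻¹ * l)⁻¹ = x⁻¹ * (e⁻¹ * (l * y * l⁻¹) * e) * x by group, hx y hy]
        have h2 : e⁻¹ * (x * y * x⁻¹) * e = x * y * x⁻¹ := by
          rw [mul_assoc, ← heS _ (mul_mem (mul_mem hxS hy) (Subgroup.inv_mem _ hxS)), inv_mul_cancel_left]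
        rw [h2]
        group
      · rw [show (e * x)⁻¹ * l * y * ((e * x)⁻¹ * l)⁻¹ = x⁻¹ * (e⁻¹ * l * y * (e⁻¹ * l)⁻¹) * x by group,
          hefix T hTs y hy, mul_assoc, hST T hTs y hy x hxS, inv_mul_cancel_left]
  obtain ⟨e, he, hefix⟩ := key s0 fun S hS => (hs0 S).1 hS
  have hC : e⁻¹ * l ∈ centralizer (Cfsg.layer Y : Set Y) := by
    have h1 : Cfsg.layer Y ≤ centralizer ({e⁻¹ * l} : Set Y) := by
      rw [hlayer]
      exact Finset.sup_le fun S hS y hy =>
        mem_centralizer_singleton_iff.2 (mul_inv_eq_iff_eq_mul.1 (hefix S hS y hy)).symm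
    exact mem_centralizer_iff.2 fun y hy => mem_centralizer_singleton_iff.1 (h1 hy)
  rw [hY.centralizer_layer, mem_bot, inv_mul_eq_one] at hC
  rw [← hC, hlayer]
  exact he

/-- the minimal perfect subgroup lies in one component -/
theorem exists_component_ge (hY : RadFree Y)
    (hOut : ∀ S : Subgroup Y, Cfsg.IsComponent S → Group.IsSolvable (Cfsg.Out S))
    (horb : ∀ S : Subgroup Y, Cfsg.IsComponent S → ∀ g : Fin 3 → Y,
      ∃ i j, i ≠ j ∧ S.map (MulAut.conj (g i)).toMonoidHom = S.map (MulAut.conj (g j)).toMonoidHom)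
    (T : Sylow 2 Y) {L : Subgroup Y} (hL : MinPerf L)
    (hsn : (L.subgroupOf (L ⊔ (T : Subgroup Y))).IsSubnormal) :
    ∃ S : Subgroup Y, Cfsg.IsComponent S ∧ L ≤ S := by
  classical
  haveI : Fact (Nat.Prime 2) := ⟨Nat.prime_two⟩
  haveI : Group.IsPerfect L := isPerfect_subtype hL.perfect
  -- `L` fixes every component
  have hfix : ∀ S : Subgroup Y, Cfsg.IsComponent S → L ≤ normalizer (S : Set Y) := by
    intro S hS
    let Ω := {K : Subgroup Y // ∃ g : Y, K = S.map (MulAut.conj g).toMonoidHom}
    have hΩ : Nat.card Ω ≤ 4 := by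
      by_contra hgt
      have h3 : Nat.card (Fin 3) ≤ Nat.card Ω := by simp; omega
      haveI : Fintype Ω := Fintype.ofFinite Ω
      obtain ⟨f⟩ : Nonempty (Fin 3 ↪ Ω) := Function.Embedding.nonempty_of_card_le (by
        rwa [Nat.card_eq_fintype_card, Nat.card_eq_fintype_card] at h3)
      choose g hg using fun i => (f i).2
      obtain ⟨i, j, hij, he⟩ := horb S hS g
      exact hij (f.injective (Subtype.ext (by rw [hg i, hg j, he])))
    let act : L →* Equiv.Perm Ω :=
      MonoidHom.mk' (fun l =>
        { toFun := fun K => ⟨K.1.map (MulAut.conj (l : Y)).toMonoidHom, by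
            obtain ⟨g, hg⟩ := K.2
            exact ⟨l * g, by rw [hg, ← Cfsg.Lib.Coprime.conjMap, ← Cfsg.Lib.Coprime.conjMap,
              Cfsg.Lib.Coprime.conjMap_mul]⟩⟩
          invFun := fun K => ⟨K.1.map (MulAut.conj (l : Y)⁻¹).toMonoidHom, by
            obtain ⟨g, hg⟩ := K.2
            exact ⟨(l : Y)⁻¹ * g, by rw [hg, ← Cfsg.Lib.Coprime.conjMap, ← Cfsg.Lib.Coprime.conjMap,
              Cfsg.Lib.Coprime.conjMap_mul]⟩⟩
          left_inv := fun K => Subtype.ext (Cfsg.Lib.Coprime.conjMap_inv_conjMap _ _)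
          right_inv := fun K => Subtype.ext (Cfsg.Lib.Coprime.conjMap_conjMap_inv _ _) })
        fun a b => Equiv.ext fun K => Subtype.ext (Cfsg.Lib.Coprime.conjMap_mul (a : Y) (b : Y) K.1).symm
    intro l hl
    have h1 := Cfsg.Lib.OutSol.perfect_perm_trivial hΩ act ⟨l, hl⟩
    rw [← Cfsg.Lib.Coprime.conjMap_eq_self_iff]
    exact congrArg Subtype.val (Equiv.ext_iff.1 h1 ⟨S, 1, by ext x; simp⟩)
  have hLE := le_layer_of_fixes hY hOut hL.perfect hfix
  set E := Cfsg.layer Y with hE
  set U := L ⊔ (T : Subgroup Y) ⊓ E with hU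
  haveI : E.Normal := inferInstance
  have hUE : U ≤ E := sup_le hLE inf_le_right
  -- a component not centralised
  obtain ⟨S, hS, hSL⟩ : ∃ S : Subgroup Y, Cfsg.IsComponent S ∧ ¬ L ≤ centralizer (S : Set Y) := by
    by_contra hno
    push Not at hno
    refine hL.ne (le_bot_iff.1 ?_)
    rw [← hY.centralizer_layer, le_centralizer_iff]
    refine sSup_le (a := centralizer (L : Set Y)) fun K hK => ?_
    exact le_centralizer_iff.1 (hno K hK)
  refine ⟨S, hS, ?_⟩
  have hSE : S ≤ E := comp_le_layer hS
  have hUS : U ≤ normalizer (S : Set Y) := hUE.trans (comp_normal_in_layer hS)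
  set US := U ⊓ S with hUSdef
  have hUn : U ≤ normalizer (US : Set Y) := Cfsg.Lib.Coprime.le_normalizer_inf le_normalizer hUS
  -- the meet with the component is not solvable
  have hns : ¬ Group.IsSolvable US := by
    intro hsolv
    haveI := (hY.comp_simple hS).1
    haveI := mulAut_finite S
    set θ := S.normalizerMonoidHom.comp (inclusion hUS) with hθ
    have hθinn : ∀ u : U, θ u ∈ Cfsg.Inn S := by
      intro u
      obtain ⟨s0, hs0, hlayer⟩ := layer_eq_finset (G := Y)
      have hgen : E ≤ S ⊔ centralizer (S : Set Y) := sSup_le (a := S ⊔ centralizer (S : Set Y)) fun K hK => by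
        by_cases h : K = S
        · exact h ▸ le_sup_left
        · exact (commutator_eq_bot_iff_le_centralizer.1 (comp_commute hK hS h)).trans le_sup_right
      obtain ⟨x, hx, c, hc, hxc⟩ :=
        (Cfsg.Lib.Coprime.mem_sup_of_le_normalizer
          (centralizer_le_normalizer (S : Set Y))).1
          (hgen (hUE u.2))
      refine ⟨⟨x, hx⟩, MulEquiv.ext fun y => Subtype.ext ?_⟩
      show x * y * x⁻¹ = (u : Y) * y * (u : Y)⁻¹
      rw [← hxc]
      calc x * (y : Y) * x⁻¹ = x * ((y : Y) * c) * c⁻¹ * x⁻¹ := by group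
        _ = x * (c * y) * c⁻¹ * x⁻¹ := by rw [mem_centralizer_iff.1 hc y y.2]
        _ = x * c * y * (x * c)⁻¹ := by group
    set W : Subgroup S := θ.range.comap MulAut.conj with hW
    have hUSW : US.subgroupOf S ≤ W := fun x hx =>
      ⟨⟨(x : Y), hx.1⟩, MulEquiv.ext fun y => Subtype.ext rfl⟩
    obtain ⟨TS, hTS⟩ := Cfsg.Lib.Kieler.exists_sylow_of_subnormal T hS.1
    have hTSle : (TS : Subgroup S) ≤ US.subgroupOf S := by
      rw [hTS]
      exact fun x hx => ⟨mem_sup_right ⟨hx, hSE x.2⟩, x.2⟩
    haveI hnorm : ((US.subgroupOf S).subgroupOf W).Normal := by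
      refine normal_subgroupOf_of_le_normalizer fun w hw => ?_
      obtain ⟨u, hu⟩ := hw
      rw [mem_normalizer_iff]
      intro y
      have h := mem_normalizer_iff.1 (hUn u.2) (y : Y)
      have h2 : (u : Y) * y * (u : Y)⁻¹ = (w : Y) * y * (w : Y)⁻¹ :=
        congrArg Subtype.val (MulEquiv.congr_fun hu y)
      rw [mem_subgroupOf, mem_subgroupOf, h, h2]
      rfl
    haveI : Group.IsSolvable (US.subgroupOf S) := isSolvable_of_equiv (subgroupOfEquivOfLe inf_le_right).symm hsolv
    haveI : Group.IsSolvable ((US.subgroupOf S).subgroupOf W) :=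
      isSolvable_of_equiv (subgroupOfEquivOfLe hUSW).symm inferInstance
    haveI : Group.IsSolvable (W ⧸ (US.subgroupOf S).subgroupOf W) := by
      refine Cfsg.Agent.PF.isSolvable_of_odd _ ?_
      rw [Nat.odd_iff, ← Subgroup.index_eq_card]
      by_contra hev
      refine TS.not_dvd_index (dvd_trans ?_ (index_dvd_of_le hTSle))
      refine dvd_trans ?_ (Dvd.intro _ (relIndex_mul_index hUSW))
      exact Nat.dvd_of_mod_eq_zero (by
        show (US.subgroupOf S).relIndex W % 2 = 0
        rw [relIndex]; omega)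
    haveI : Group.IsSolvable W := (Group.isSolvable_iff_subgroup_quotient ((US.subgroupOf S).subgroupOf W)).2 ⟨inferInstance, inferInstance⟩
    haveI : Group.IsSolvable θ.range := by
      have e : W.map MulAut.conj = θ.range := by
        rw [hW, map_comap_eq, inf_eq_right]
        rintro _ ⟨u, rfl⟩
        exact hθinn u
      rw [← e]
      exact isSolvable_map _ inferInstance
    refine hSL fun l hl => mem_centralizer_iff.2 fun y hy => ?_
    have h1 := Cfsg.Lib.OutSol.perfect_hom_trivial
      (θ.rangeRestrict.comp (inclusion (le_sup_left : L ≤ U))) ⟨l, hl⟩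
    have h2 := congrArg Subtype.val (MulEquiv.congr_fun (congrArg Subtype.val h1) ⟨y, hy⟩)
    exact (mul_inv_eq_iff_eq_mul.1 h2).symm
  -- modulo the radical of `U`
  obtain ⟨R, hRn, hRs, hRf⟩ := exists_radical U
  haveI := hRn
  set π := QuotientGroup.mk' R with hπ
  have hUTL : U ≤ L ⊔ (T : Subgroup Y) := sup_le le_sup_left (inf_le_left.trans le_sup_right)
  have hLU : (L.subgroupOf U).IsSubnormal := by
    have := hsn.comap (Subgroup.inclusion hUTL)
    have e : (L.subgroupOf (L ⊔ (T : Subgroup Y))).comap (Subgroup.inclusion hUTL) = L.subgroupOf U := by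
      ext x; simp [mem_subgroupOf]
    rwa [e] at this
  have hLU' : MinPerf (L.subgroupOf U) := by
    refine ⟨fun h => hL.ne ?_, ?_, fun K hK hKs hKp => ?_⟩
    · rw [← map_subgroupOf_eq_of_le (le_sup_left : L ≤ U), h, Subgroup.map_bot]
    · apply Subgroup.map_injective U.subtype_injective
      rw [map_commutator, map_subgroupOf_eq_of_le le_sup_left, hL.perfect]
    · have hK' : K.map U.subtype ≤ L := by
        rw [← map_subgroupOf_eq_of_le (le_sup_left : L ≤ U)]; exact Subgroup.map_mono hK
      have hKs' : ((K.map U.subtype).subgroupOf L).IsSubnormal := by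
        have := hKs.comap (subgroupOfEquivOfLe (le_sup_left : L ≤ U)).symm.toMonoidHom
        have e : (K.subgroupOf (L.subgroupOf U)).comap
            (subgroupOfEquivOfLe (le_sup_left : L ≤ U)).symm.toMonoidHom = (K.map U.subtype).subgroupOf L := by
          ext x
          constructor
          · intro h; exact ⟨_, h, rfl⟩
          · rintro ⟨y, hy, e⟩
            show ((subgroupOfEquivOfLe (le_sup_left : L ≤ U)).symm x : U) ∈ K
            rwa [show ((subgroupOfEquivOfLe (le_sup_left : L ≤ U)).symm x : U) = y from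
              Subtype.ext (e.symm : _)]
        rwa [e] at this
      rcases hL.min _ hK' hKs' (perfect_map _ hKp) with h | h
      · exact Or.inl ((map_eq_bot_iff_of_injective K U.subtype_injective).1 h)
      · exact Or.inr (Subgroup.map_injective U.subtype_injective (by
          rw [h, map_subgroupOf_eq_of_le le_sup_left]))
  set P := (perfCore US).subgroupOf U with hP
  haveI hPn : P.Normal :=
    normal_subgroupOf_of_le_normalizer (hUn.trans (normalizer_le_normalizer_perfCore US))
  have hPle : perfCore US ≤ U := (perfCore_le US).trans inf_le_left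
  have hPp : ⁅P, P⁆ = P := by
    apply Subgroup.map_injective U.subtype_injective
    rw [map_commutator, map_subgroupOf_eq_of_le hPle, perfCore_perfect]
  have hPne : P ≠ ⊥ := fun h => hns (perfCore_eq_bot_solvable (by
    rw [← map_subgroupOf_eq_of_le hPle, ← hP, h, Subgroup.map_bot]))
  have hPb : P.map π ≠ ⊥ := fun h => hPne (by
    rw [Subgroup.map_eq_bot_iff, hπ, QuotientGroup.ker_mk'] at h
    exact eq_bot_of_perfect_solvable hPp h hRs)
  have hLb : (L.subgroupOf U).map π ≠ ⊥ := fun h => hLU'.not_solvable (by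
    rw [Subgroup.map_eq_bot_iff, hπ, QuotientGroup.ker_mk'] at h
    exact Cfsg.Lib.Coprime.isSolvable_of_le h hRs)
  have hcompL : Cfsg.IsComponent ((L.subgroupOf U).map π) :=
    (hLU'.map π hLb).isComponent hRf (hLU.map (QuotientGroup.mk'_surjective R))
  haveI : (P.map π).Normal := hPn.map _ (QuotientGroup.mk'_surjective R)
  have hle : (L.subgroupOf U).map π ≤ P.map π := by
    rcases comp_le_or_commute hcompL (inferInstance : (P.map π).Normal).isSubnormal with h | h
    · exact h
    exfalso
    set N := normalClosure ((L.subgroupOf U).map π : Set (↥U ⧸ R)) with hN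
    have hPC : N ≤ centralizer (P.map π : Set (↥U ⧸ R)) :=
      normalClosure_le_normal (commutator_eq_bot_iff_le_centralizer.1 h)
    have hPN : P.map π ≤ N := by
      let q := (QuotientGroup.mk' N).comp π
      have hsolv : Group.IsSolvable ((↥U ⧸ R) ⧸ N) := by
        have htop : (⊤ : Subgroup ((↥U ⧸ R) ⧸ N)) = (((T : Subgroup Y) ⊓ E).subgroupOf U).map q := by
          rw [← Subgroup.map_top_of_surjective q
            ((QuotientGroup.mk'_surjective N).comp (QuotientGroup.mk'_surjective R)),
            show (⊤ : Subgroup U) = L.subgroupOf U ⊔ ((T : Subgroup Y) ⊓ E).subgroupOf U by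
              rw [← subgroupOf_sup le_sup_left le_sup_right]; exact (subgroupOf_self (H := U)).symm, Subgroup.map_sup]
          refine sup_eq_right.2 (le_of_eq_of_le ?_ bot_le)
          rw [Subgroup.map_eq_bot_iff]
          intro x hx
          exact (QuotientGroup.eq_one_iff _).2 (subset_normalClosure (mem_map_of_mem π hx))
        haveI : Group.IsNilpotent ↥(⊤ : Subgroup ((↥U ⧸ R) ⧸ N)) := by
          rw [htop]
          exact (((T.2.to_le (inf_le_left : (T : Subgroup Y) ⊓ E ≤ T)).comap_subtype (K := U)).map q).isNilpotent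
        exact isSolvable_of_equiv Subgroup.topEquiv inferInstance
      intro x hx
      exact (QuotientGroup.eq_one_iff x).1 (Cfsg.Lib.Components.map_eq_one_of_perfect_solvable
        (perfect_map π hPp) hsolv ((QuotientGroup.mk' N).comp (P.map π).subtype) ⟨x, hx⟩)
    refine hPb (eq_bot_of_perfect_solvable (perfect_map π hPp) le_rfl (Group.isSolvable_of_comm fun a b => ?_))
    exact Subtype.ext (mem_centralizer_iff.1 (hPC (hPN b.2)) a a.2)
  intro l hl
  have hlP : L.subgroupOf U ≤ P := by
    have h1 := Subgroup.map_le_map_iff.1 hle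
    rw [hπ, QuotientGroup.ker_mk'] at h1
    intro x hx
    haveI hRP : Group.IsSolvable (R.map (QuotientGroup.mk' P)) := isSolvable_map _ hRs
    have h2 : (QuotientGroup.mk' P) x ∈ R.map (QuotientGroup.mk' P) := by
      obtain ⟨a, ha, r, hr, e⟩ := mem_sup_of_normal_left.1 (h1 hx)
      exact ⟨r, hr, by rw [← e, map_mul, show (QuotientGroup.mk' P) a = 1 from
        (QuotientGroup.eq_one_iff a).2 ha, one_mul]⟩
    have h3 : (L.subgroupOf U).map (QuotientGroup.mk' P) = ⊥ := by
      refine eq_bot_of_perfect_solvable (perfect_map _ hLU'.perfect) ?_ hRP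
      rintro _ ⟨y, hy, rfl⟩
      obtain ⟨a, ha, r, hr, e⟩ := mem_sup_of_normal_left.1 (h1 hy)
      exact ⟨r, hr, by rw [← e, map_mul, show (QuotientGroup.mk' P) a = 1 from
        (QuotientGroup.eq_one_iff a).2 ha, one_mul]⟩
    rw [Subgroup.map_eq_bot_iff, QuotientGroup.ker_mk'] at h3
    exact h3 hx
  exact ((perfCore_le US) (hlP (show (⟨l, le_sup_left (b := (T : Subgroup Y) ⊓ E) hl⟩ : U) ∈ L.subgroupOf U from hl))).2

variable {H : Type u} [Group H] [Finite H]

/-- the minimal perfect subgroup lies in a minimal perfect subnormal subgroup of `H` with at most two conjugates -/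
theorem exists_overgroup (hrk : ∀ p : ℕ, p.Prime → p ≠ 2 → Cfsg.PRankLE p 2 H)
    (hOut : ∀ (R : Subgroup H) [R.Normal] (S : Subgroup (H ⧸ R)), RadFree (H ⧸ R) → Cfsg.IsComponent S →
      Group.IsSolvable (Cfsg.Out S))
    (T : Sylow 2 H) {L : Subgroup H} (hL : MinPerf L)
    (hsn : (L.subgroupOf (L ⊔ (T : Subgroup H))).IsSubnormal) :
    ∃ K : Subgroup H, L ≤ K ∧ MinPerf K ∧ K.IsSubnormal ∧
      ∀ g : Fin 3 → H, ∃ i j, i ≠ j ∧
        K.map (MulAut.conj (g i)).toMonoidHom = K.map (MulAut.conj (g j)).toMonoidHom := by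
  classical
  haveI : Fact (Nat.Prime 2) := ⟨Nat.prime_two⟩
  obtain ⟨R, hRn, hRs, hRf⟩ := exists_radical H
  haveI := hRn
  set π := QuotientGroup.mk' R with hπ
  have hπs : Function.Surjective π := QuotientGroup.mk'_surjective R
  have hLb : L.map π ≠ ⊥ := fun h => hL.not_solvable (by
    rw [Subgroup.map_eq_bot_iff, hπ, QuotientGroup.ker_mk'] at h
    exact Cfsg.Lib.Coprime.isSolvable_of_le h hRs)
  have horb : ∀ S : Subgroup (H ⧸ R), Cfsg.IsComponent S → ∀ g : Fin 3 → H ⧸ R,
      ∃ i j, i ≠ j ∧ S.map (MulAut.conj (g i)).toMonoidHom = S.map (MulAut.conj (g j)).toMonoidHom := by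
    intro S hS g
    by_contra hno
    push Not at hno
    exact no_three_components hrk π hπs hRf hS g hno
  obtain ⟨S, hS, hLS⟩ := exists_component_ge hRf (fun S hS => hOut R S hRf hS) horb (T.mapSurjective hπs)
    (hL.map π hLb) (by
      rw [Sylow.coe_mapSurjective, ← Subgroup.map_sup]
      have := hsn.map (π.subgroupMap_surjective (L ⊔ (T : Subgroup H)))
      have e : (L.subgroupOf (L ⊔ (T : Subgroup H))).map (π.subgroupMap (L ⊔ (T : Subgroup H))) =
          (L.map π).subgroupOf ((L ⊔ (T : Subgroup H)).map π) := by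
        ext x
        constructor
        · rintro ⟨y, hy, rfl⟩; exact mem_map_of_mem π hy
        · rintro ⟨y, hy, e⟩
          exact ⟨⟨y, mem_sup_left hy⟩, hy, Subtype.ext e⟩
      rwa [e] at this)
  set X := S.comap π with hX
  have hXsn : X.IsSubnormal := hS.1.comap π
  set K := perfCore X with hK
  have hKsn : K.IsSubnormal :=
    isSubnormal_of_normal_in hXsn (perfCore_le X) (le_normalizer.trans (normalizer_le_normalizer_perfCore X))
  have hLX : L ≤ X := fun l hl => hLS (mem_map_of_mem π hl)
  have hLK : L ≤ K := le_perfCore hLX hL.perfect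
  have hKS : K.map π = S := by
    refine le_antisymm ((Subgroup.map_mono (perfCore_le X)).trans (map_comap_le _ _)) ?_
    obtain ⟨Z, hZ, hZm, hZp⟩ := exists_perfect_cover' π (X0 := X)
      (by rw [hX, map_comap_eq_self_of_surjective hπs]) (comp_perfect hS)
    rw [← hZm]
    exact Subgroup.map_mono (le_perfCore hZ hZp)
  refine ⟨K, hLK, ⟨fun h => hL.ne (le_bot_iff.1 (h ▸ hLK)), perfCore_perfect X, fun K' hK' hK's hK'p => ?_⟩,
    hKsn, fun g => ?_⟩
  · haveI := (hRf.comp_simple hS).1
    have hs1 : ((K'.map π).subgroupOf S).IsSubnormal := by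
      have hsn' : K'.IsSubnormal := by
        have := isSubnormal_map_subtype hKsn hK's
        rwa [map_subgroupOf_eq_of_le hK'] at this
      exact (hsn'.map hπs).subgroupOf
    rcases hs1.eq_bot_or_top_of_isSimpleGroup inferInstance with h | h
    · left
      have h1 : K'.map π = ⊥ := by
        rw [← map_subgroupOf_eq_of_le (hKS ▸ Subgroup.map_mono hK' : K'.map π ≤ S), h, Subgroup.map_bot]
      rw [Subgroup.map_eq_bot_iff, hπ, QuotientGroup.ker_mk'] at h1
      exact eq_bot_of_perfect_solvable hK'p h1 hRs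
    · right
      by_contra hne
      have hne' : K'.subgroupOf K ≠ ⊤ := fun e => hne (le_antisymm hK' (subgroupOf_eq_top.1 e))
      obtain ⟨N, hN, hle, hNne⟩ := exists_proper_normal hK's hne'
      haveI := hN
      haveI : Nontrivial (K ⧸ N) := QuotientGroup.nontrivial_iff.mpr hNne
      haveI : Group.IsPerfect K := isPerfect_subtype (perfCore_perfect X)
      haveI : Group.IsSolvable (R.subgroupOf K) :=
        Group.isSolvable_of_isSolvable_injective (f := (K.subtype.comp (R.subgroupOf K).subtype).codRestrict R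
          fun x => x.2) (fun a b e => Subtype.ext (Subtype.ext (congrArg Subtype.val e :)))
      have htop : ∀ x : K ⧸ N, x ∈ (R.subgroupOf K).map (QuotientGroup.mk' N) := by
        intro x
        obtain ⟨⟨x, hx⟩, rfl⟩ := QuotientGroup.mk_surjective x
        have hπx : π x ∈ K'.map π := by
          have h1 : π x ∈ S := hKS ▸ mem_map_of_mem π hx
          exact (subgroupOf_eq_top.1 h) h1
        obtain ⟨y, hy, e⟩ := hπx
        refine ⟨⟨y, hK' hy⟩⁻¹ * ⟨x, hx⟩, ?_, ?_⟩
        · show y⁻¹ * x ∈ R
          rw [← QuotientGroup.eq_one_iff]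
          show π (y⁻¹ * x) = 1
          rw [map_mul, map_inv, e, inv_mul_cancel]
        · rw [map_mul, map_inv, show (QuotientGroup.mk' N) ⟨y, hK' hy⟩ = 1 from
            (QuotientGroup.eq_one_iff _).2 (hle hy), inv_one, one_mul]
          rfl
      haveI : Group.IsSolvable (K ⧸ N) := by
        haveI : Group.IsSolvable ((R.subgroupOf K).map (QuotientGroup.mk' N)) := isSolvable_map _ inferInstance
        exact Group.isSolvable_of_surjective (f := ((R.subgroupOf K).map (QuotientGroup.mk' N)).subtype)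
          fun x => ⟨⟨x, htop x⟩, rfl⟩
      obtain ⟨x, hx⟩ := exists_ne (1 : K ⧸ N)
      obtain ⟨y, rfl⟩ := QuotientGroup.mk_surjective x
      exact hx (Cfsg.Lib.OutSol.perfect_hom_trivial (QuotientGroup.mk' N) y)
  · obtain ⟨i, j, hij, he⟩ := horb S hS fun i => π (g i)
    refine ⟨i, j, hij, ?_⟩
    have key : ∀ i, K.map (MulAut.conj (g i)).toMonoidHom =
        perfCore ((S.map (MulAut.conj (π (g i))).toMonoidHom).comap π) := by
      intro i
      have e1 : X.map (MulAut.conj (g i)).toMonoidHom = (S.map (MulAut.conj (π (g i))).toMonoidHom).comap π := by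
        ext x
        rw [mem_comap, Cfsg.Lib.Coprime.mem_conjMap |> fun h => (h : x ∈ X.map (MulAut.conj (g i)).toMonoidHom ↔ _),
          Cfsg.Lib.Coprime.mem_conjMap |> fun h => (h : π x ∈ S.map (MulAut.conj (π (g i))).toMonoidHom ↔ _),
          hX, mem_comap, map_mul, map_mul, map_inv]
      rw [← e1]
      refine le_antisymm (le_perfCore (Subgroup.map_mono (perfCore_le X)) (perfect_map _ (perfCore_perfect X))) ?_
      rw [← Cfsg.Lib.Coprime.conjMap_conjMap_inv (g i) (perfCore (X.map (MulAut.conj (g i)).toMonoidHom))]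
      refine Subgroup.map_mono (le_perfCore ?_ (perfect_map _ (perfCore_perfect _)))
      have := Cfsg.Lib.Coprime.conjMap_mono (g := (g i)⁻¹) (perfCore_le (Cfsg.Lib.Coprime.conjMap (g i) X))
      rwa [Cfsg.Lib.Coprime.conjMap_inv_conjMap] at this
    rw [key i, key j, he]

end Cfsg.Lib.QTUniq
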