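import Cfsg.Agent.QTKE.Uniq.Radical
import Cfsg.Agent.QTKE.Uniq.RankAction

/-!
In a section of a group of odd `p`-ranks at most two, a component has at most two conjugates; and three
commuting dihedral pairs of order six give `3`-rank three.
-/

set_option autoImplicit false
set_option linter.unusedSectionVars false
set_option linter.style.haveILetI false

namespace Cfsg.Lib.QTUniq

open Subgroup Cfsg.Lib.Components
open scoped commutatorElement

universe u

theorem exists_odd_prime_dvd {S : Type u} [Group S] [Finite S] [IsSimpleGroup S] (hna : ¬ IsMulCommutative S) :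
    ∃ p : ℕ, p.Prime ∧ p ≠ 2 ∧ p ∣ Nat.card S := by
  by_contra hno
  push Not at hno
  haveI : Fact (Nat.Prime 2) := ⟨Nat.prime_two⟩
  have h2 : IsPGroup 2 S := IsPGroup.of_card (n := (Nat.card S).primeFactorsList.length)
    (Nat.eq_prime_pow_of_unique_prime_dvd Nat.card_pos.ne' fun {d} hd hdvd =>
      by_contra fun hne => hno d hd hne hdvd)
  haveI := h2.isNilpotent
  exact hna ⟨⟨(IsSimpleGroup.comm_iff_isSolvable (G := S)).2 inferInstance⟩⟩

variable {H : Type u} [Group H] [Finite H] {Y : Type u} [Group Y]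

theorem mem_commute_of_disjoint {K L : Subgroup Y} (h : ⁅K, L⁆ = ⊥) {x y : Y} (hx : x ∈ K) (hy : y ∈ L) :
    x * y = y * x :=
  (mem_centralizer_iff.1 (commutator_eq_bot_iff_le_centralizer.1 h hx) y hy).symm

/-- three distinct conjugates of a component give `p`-rank three -/
theorem no_three_components [Finite Y] (hrk : ∀ p : ℕ, p.Prime → p ≠ 2 → Cfsg.PRankLE p 2 H) (π : H →* Y)
    (hπ : Function.Surjective π) (hY : RadFree Y) {K : Subgroup Y} (hK : Cfsg.IsComponent K) (g : Fin 3 → Y)
    (hg : ∀ i j, i ≠ j → K.map (MulAut.conj (g i)).toMonoidHom ≠ K.map (MulAut.conj (g j)).toMonoidHom) :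
    False := by
  obtain ⟨hsimple, hna⟩ := hY.comp_simple hK
  haveI := hsimple
  obtain ⟨p, hp, hp2, hpd⟩ := exists_odd_prime_dvd hna
  haveI := Fact.mk hp
  obtain ⟨Q, a, q, hq, hqp, hQ, han, ⟨k, hak⟩, hapow, hanc⟩ := exists_moving hna hpd
  let f : Fin 3 → K →* Y := fun i => (MulAut.conj (g i)).toMonoidHom.comp K.subtype
  have hfi : ∀ i, Function.Injective (f i) := fun i => (MulAut.conj (g i)).injective.comp K.subtype_injective
  have hfK : ∀ i (x : K), f i x ∈ K.map (MulAut.conj (g i)).toMonoidHom := fun i x => mem_map_of_mem _ x.2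
  have hcomm : ∀ i j, i ≠ j → ∀ x y : K, f i x * f j y = f j y * f i x := fun i j hij x y =>
    mem_commute_of_disjoint (comp_commute (comp_conj hK _) (comp_conj hK _) (hg i j hij)) (hfK i x) (hfK j y)
  refine no_three hp2 hq hqp (hrk p hp hp2) π hπ (fun i => Q.map (f i)) (fun i => f i a) (fun i => hQ.map _)
    ?_ (fun i => ⟨k, by rw [← map_pow, hak, map_one]⟩) ?_ ?_ ?_ ?_ ?_
  · exact fun i => Subgroup.le_normalizer_map (f i) (mem_map_of_mem _ han)
  · intro i
    rw [mem_centralizer_iff]
    rintro _ ⟨x, hx, rfl⟩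
    rw [← map_pow, ← map_mul, ← map_mul, mem_centralizer_iff.1 hapow x hx]
  · intro i h
    refine hanc (mem_centralizer_iff.2 fun x hx => hfi i ?_)
    rw [map_mul, map_mul]
    exact mem_centralizer_iff.1 h _ (mem_map_of_mem _ hx)
  · intro i j hij x hx
    obtain ⟨x, -, rfl⟩ := hx
    rw [mem_centralizer_iff]
    rintro _ ⟨y, -, rfl⟩
    exact (hcomm i j hij x y).symm
  · intro i j hij
    rw [mem_centralizer_iff]
    rintro _ ⟨y, -, rfl⟩
    exact (hcomm i j hij a y).symm
  · intro i j
    rcases eq_or_ne i j with rfl | hij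
    · rfl
    · exact hcomm i j hij a a

/-- three commuting pairs of an element of order three and an involution inverting it -/
theorem no_three_dihedral (hr : Cfsg.PRankLE 3 2 H) (π : H →* Y) (hπ : Function.Surjective π)
    (x a : Fin 3 → Y) (hx : ∀ i, x i ^ 3 = 1) (hx1 : ∀ i, x i ≠ 1) (ha : ∀ i, a i * a i = 1)
    (hinv : ∀ i, a i * x i * (a i)⁻¹ = (x i)⁻¹) (hxx : ∀ i j, x i * x j = x j * x i)
    (hax : ∀ i j, i ≠ j → a i * x j = x j * a i) (haa : ∀ i j, a i * a j = a j * a i) : False := by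
  haveI : Fact (Nat.Prime 3) := ⟨Nat.prime_three⟩
  haveI : Finite Y := Finite.of_surjective π hπ
  refine no_three (p := 3) (q := 2) (by norm_num) Nat.prime_two (by norm_num) hr π hπ
    (fun i => zpowers (x i)) a ?_ ?_ (fun i => ⟨1, by rw [pow_one, pow_two, ha]⟩) ?_ ?_ ?_ ?_ haa
  · intro i
    exact IsPGroup.of_card (n := 1) (by rw [Nat.card_zpowers, orderOf_eq_prime (hx i) (hx1 i), pow_one])
  · intro i
    rw [← Cfsg.Lib.Coprime.conjMap_eq_self_iff, Cfsg.Lib.Coprime.conjMap, MonoidHom.map_zpowers]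
    show zpowers (a i * x i * (a i)⁻¹) = zpowers (x i)
    rw [hinv, zpowers_inv]
  · intro i
    rw [pow_two, ha]
    exact one_mem _
  · intro i h
    have h1 : x i * a i = a i * x i := mem_centralizer_iff.1 h _ (mem_zpowers _)
    have h2 := hinv i
    rw [← h1, mul_inv_cancel_right] at h2
    have h3 : x i ^ 2 = 1 := by rw [pow_two]; exact mul_eq_one_iff_eq_inv.2 h2
    exact hx1 i (by have h4 := hx i; rwa [pow_succ, h3, one_mul] at h4)
  · intro i j _
    rw [zpowers_le, mem_centralizer_iff]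
    rintro _ ⟨m, rfl⟩
    exact ((show Commute (x j) (x i) from hxx j i).zpow_left m).eq
  · intro i j hij
    rw [mem_centralizer_iff]
    rintro _ ⟨m, rfl⟩
    exact ((show Commute (x j) (a i) from (hax i j hij).symm).zpow_left m).eq

end Cfsg.Lib.QTUniq
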