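import Cfsg.Agent.Components.GenFitting
import Cfsg.Agent.Components.Structure
import Cfsg.Agent.Components.LBalance
import Cfsg.Agent.Components.Signalizer.Basic
import Cfsg.Agent.CoprimeLayer.Perfect
import Cfsg.Agent.OutSol.Residual

/-!
Groups without solvable normal subgroups, and minimal perfect subgroups.
-/

set_option autoImplicit false
set_option linter.unusedSectionVars false
set_option linter.style.haveILetI false

namespace Cfsg.Lib.QTUniq

open Subgroup Cfsg.Lib.Components
open Cfsg.Lib.CoprimeLayer (perfCore perfCore_le perfCore_perfect le_perfCore perfect_map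
  exists_perfect_cover' normalizer_le_normalizer_perfCore eq_bot_of_perfect_solvable)
open scoped commutatorElement

universe u v

variable {Y : Type u} [Group Y]

/-- no solvable normal subgroup except the trivial one -/
def RadFree (Y : Type u) [Group Y] : Prop :=
  ∀ N : Subgroup Y, N.Normal → Group.IsSolvable N → N = ⊥

/-- a nontrivial perfect subgroup without proper nontrivial perfect subnormal subgroups -/
structure MinPerf (L : Subgroup Y) : Prop where
  ne : L ≠ ⊥
  perfect : ⁅L, L⁆ = L
  min : ∀ K : Subgroup Y, K ≤ L → (K.subgroupOf L).IsSubnormal → ⁅K, K⁆ = K → K = ⊥ ∨ K = L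

theorem isSolvable_of_equiv {A : Type u} {B : Type v} [Group A] [Group B] (e : A ≃* B)
    (h : Group.IsSolvable A) : Group.IsSolvable B := by
  haveI := h
  exact Group.isSolvable_of_surjective (f := e.toMonoidHom) e.surjective

theorem isSolvable_map {Z : Type v} [Group Z] {K : Subgroup Y} (f : Y →* Z) (h : Group.IsSolvable K) :
    Group.IsSolvable (K.map f) := by
  haveI := h
  exact Group.isSolvable_of_surjective (f := f.subgroupMap K) (f.subgroupMap_surjective K)

theorem isPerfect_subtype {P : Subgroup Y} (h : ⁅P, P⁆ = P) : Group.IsPerfect P :=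
  Subgroup.isPerfect_iff.2 h

theorem not_solvable_of_perfect {P : Subgroup Y} (h : ⁅P, P⁆ = P) (hne : P ≠ ⊥) : ¬ Group.IsSolvable P :=
  fun hs => hne (eq_bot_of_perfect_solvable h le_rfl hs)

variable [Finite Y]

/-- a maximal solvable normal subgroup has a quotient without solvable normal subgroups -/
theorem exists_radical (Y : Type u) [Group Y] [Finite Y] :
    ∃ (R : Subgroup Y) (_ : R.Normal), Group.IsSolvable R ∧ RadFree (Y ⧸ R) := by
  obtain ⟨R, ⟨hn, hs⟩, hmax⟩ := WellFounded.has_min (wellFounded_gt (α := Subgroup Y))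
    {N | N.Normal ∧ Group.IsSolvable N} ⟨⊥, inferInstance, inferInstance⟩
  haveI := hn
  refine ⟨R, hn, hs, fun N hN hNs => ?_⟩
  haveI := hN
  set M := N.comap (QuotientGroup.mk' R) with hM
  have hRM : R ≤ M := fun x hx => by
    rw [hM, mem_comap, show (QuotientGroup.mk' R) x = 1 from (QuotientGroup.eq_one_iff x).2 hx]
    exact one_mem _
  have hMs : Group.IsSolvable M := by
    haveI := hs
    haveI := hNs
    let f : M →* N := ((QuotientGroup.mk' R).comp M.subtype).codRestrict N fun x => x.2
    refine Group.isSolvable_of_ker_le_range (Subgroup.inclusion hRM) f fun x hx => ?_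
    have h1 : (QuotientGroup.mk' R) (x : Y) = 1 := congrArg Subtype.val (MonoidHom.mem_ker.1 hx)
    exact ⟨⟨x, (QuotientGroup.eq_one_iff (x : Y)).1 h1⟩, rfl⟩
  have hMR : M = R := by
    by_contra hne
    exact hmax M ⟨inferInstance, hMs⟩ (lt_of_le_of_ne hRM (Ne.symm hne))
  rw [← map_comap_eq_self_of_surjective (QuotientGroup.mk'_surjective R) N, ← hM, hMR,
    QuotientGroup.map_mk'_self]

theorem eq_bot_of_solvable_subnormal_aux (n : ℕ) : ∀ (Y : Type u) [Group Y] [Finite Y],
    Nat.card Y ≤ n → RadFree Y → ∀ S : Subgroup Y, S.IsSubnormal → Group.IsSolvable S → S = ⊥ := by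
  induction n with
  | zero => intro Y _ _ h; exact absurd (Nat.card_pos (α := Y)) (by omega)
  | succ n ih =>
    intro Y _ _ hle hR S hS hs
    by_cases htop : S = ⊤
    · exact hR S (htop ▸ inferInstance) hs
    obtain ⟨H, hH, hSH, hne⟩ := exists_proper_normal hS htop
    haveI := hH
    have hlt := card_lt_of_ne_top hne
    have hRH : RadFree H := by
      obtain ⟨R, hRn, hRs, hRf⟩ := exists_radical H
      haveI := hRn
      have key : ∀ N : Subgroup H, N.Characteristic → Group.IsSolvable N → N = ⊥ := fun N hNc hNs => by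
        haveI := hNc
        have h1 : (N.map H.subtype).Normal := inferInstance
        exact (map_eq_bot_iff_of_injective N H.subtype_injective).1 (hR _ h1 (isSolvable_map _ hNs))
      intro N hN hNs
      haveI := hN
      set C := sSup {M : Subgroup H | M.Normal ∧ Group.IsSolvable M} with hC
      have hCR : C ≤ R := sSup_le fun M hM => by
        haveI := hM.1
        have h1 : (M.map (QuotientGroup.mk' R)).Normal := hM.1.map _ (QuotientGroup.mk'_surjective R)
        have h2 := hRf _ h1 (isSolvable_map _ hM.2)
        rwa [Subgroup.map_eq_bot_iff, QuotientGroup.ker_mk'] at h2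
      have hRC : C = R := le_antisymm hCR (le_sSup ⟨hRn, hRs⟩)
      have hchar : C.Characteristic := characteristic_iff_map_le.2 fun e => by
        rw [hC, sSup_eq_iSup, Subgroup.map_iSup]
        refine iSup_le fun M => ?_
        rw [Subgroup.map_iSup]
        refine iSup_le fun hM => le_iSup₂_of_le (M.map e.toMonoidHom) ⟨?_, isSolvable_map _ hM.2⟩ le_rfl
        exact hM.1.map _ e.surjective
      have hC0 := key C hchar (hRC ▸ hRs)
      rw [← le_bot_iff, ← hC0]
      exact le_sSup ⟨hN, hNs⟩
    have := ih H (by omega) hRH (S.subgroupOf H) hS.subgroupOf (isSolvable_of_equiv (subgroupOfEquivOfLe hSH).symm hs)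
    rw [← map_subgroupOf_eq_of_le hSH, this, Subgroup.map_bot]

/-- a solvable subnormal subgroup of a group without solvable normal subgroups is trivial -/
theorem RadFree.subnormal (hR : RadFree Y) {S : Subgroup Y} (hS : S.IsSubnormal) (hs : Group.IsSolvable S) :
    S = ⊥ :=
  eq_bot_of_solvable_subnormal_aux _ Y le_rfl hR S hS hs

theorem RadFree.fitting_eq_bot (hR : RadFree Y) {N : Subgroup Y} (hN : N.Normal) (hn : Group.IsNilpotent N) :
    N = ⊥ := by
  haveI := hn
  exact hR N hN inferInstance

theorem RadFree.centralizer_layer (hR : RadFree Y) : centralizer (Cfsg.layer Y : Set Y) = ⊥ := by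
  have hF : Cfsg.fittingSubgroup Y = ⊥ := le_bot_iff.1 (sSup_le fun N hN => (hR.fitting_eq_bot hN.1 hN.2).le)
  have h1 : Cfsg.generalizedFittingSubgroup Y = Cfsg.layer Y := by
    rw [Cfsg.generalizedFittingSubgroup, hF, sup_bot_eq]
  have hle : centralizer (Cfsg.layer Y : Set Y) ≤ Cfsg.layer Y := by
    have := centralizer_genFitting_le (G := Y)
    rwa [h1] at this
  haveI : (centralizer (Cfsg.layer Y : Set Y)).Normal := inferInstance
  refine hR _ inferInstance (Group.isSolvable_of_comm fun a b => Subtype.ext ?_)
  exact mem_centralizer_iff.1 b.2 a (hle a.2)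

theorem RadFree.comp_simple (hR : RadFree Y) {K : Subgroup Y} (hK : Cfsg.IsComponent K) :
    IsSimpleGroup K ∧ ¬ IsMulCommutative K := by
  refine ⟨?_, comp_not_isMulCommutative hK⟩
  haveI := (qs_nontrivial hK.2)
  refine ⟨fun N hN => ?_⟩
  rcases qs_subnormal_eq_top_or_le_center hK.2 hN.isSubnormal with h | h
  · exact Or.inr h
  · refine Or.inl ((map_eq_bot_iff_of_injective N K.subtype_injective).1
      (hR.subnormal (isSubnormal_map_subtype hK.1 hN.isSubnormal) (isSolvable_map _ ?_)))
    haveI := isMulCommutative_of_le_center h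
    exact Group.isSolvable_of_comm fun a b => (IsMulCommutative.is_comm).comm a b

/-! ### minimal perfect subgroups -/

theorem MinPerf.not_solvable {L : Subgroup Y} (h : MinPerf L) : ¬ Group.IsSolvable L :=
  not_solvable_of_perfect h.perfect h.ne

theorem perfCore_eq_bot_solvable {N : Subgroup Y} (h : perfCore N = ⊥) : Group.IsSolvable N := by
  refine Cfsg.Lib.OutSol.isSolvable_of_noPerfect fun T hT => ?_
  have h1 : T.map N.subtype ≤ perfCore N :=
    le_perfCore (map_subtype_le _) (perfect_map _ (Subgroup.isPerfect_iff.1 hT))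
  rw [h, le_bot_iff] at h1
  exact (map_eq_bot_iff_of_injective T N.subtype_injective).1 h1

/-- subnormal subgroups that are proper in a minimal perfect subgroup are solvable -/
theorem MinPerf.solvable_of_ne {L N : Subgroup Y} (h : MinPerf L) (hle : N ≤ L)
    (hsn : (N.subgroupOf L).IsSubnormal) (hne : N ≠ L) : Group.IsSolvable N := by
  refine perfCore_eq_bot_solvable ?_
  have hsub : ((perfCore N).subgroupOf L).IsSubnormal := by
    refine isSubnormal_of_normal_in hsn (Subgroup.comap_mono (perfCore_le N)) ?_
    rw [← subgroupOf_normalizer_eq ((perfCore_le N).trans hle)]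
    exact Subgroup.comap_mono (le_normalizer.trans (normalizer_le_normalizer_perfCore N))
  rcases h.min _ ((perfCore_le N).trans hle) hsub (perfCore_perfect N) with e | e
  · exact e
  · exact absurd (le_antisymm hle (e ▸ perfCore_le N)) hne

theorem MinPerf.map {Z : Type v} [Group Z] [Finite Z] {L : Subgroup Y} (h : MinPerf L) (f : Y →* Z)
    (hne : L.map f ≠ ⊥) : MinPerf (L.map f) := by
  refine ⟨hne, perfect_map f h.perfect, fun K hK hsn hKp => ?_⟩
  set K1 := L ⊓ K.comap f with hK1
  have hK1sn : (K1.subgroupOf L).IsSubnormal := by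
    have e : K1.subgroupOf L = (K.subgroupOf (L.map f)).comap (f.subgroupMap L) := by
      ext x
      simp [hK1, mem_subgroupOf]
    rw [e]
    exact hsn.comap _
  have hK1map : K ≤ K1.map f := fun k hk => by
    obtain ⟨x, hx, rfl⟩ := hK hk
    exact mem_map_of_mem f ⟨hx, hk⟩
  obtain ⟨X, hX, hXm, hXp⟩ := exists_perfect_cover' f hK1map hKp
  by_cases he : K1 = L
  · exact Or.inr (le_antisymm hK (by rw [← he]; exact (Subgroup.map_mono inf_le_right).trans (map_comap_le _ _)))
  · have hs := h.solvable_of_ne inf_le_left hK1sn he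
    rw [← hXm, eq_bot_of_perfect_solvable hXp hX hs, Subgroup.map_bot]
    exact Or.inl rfl

theorem MinPerf.isComponent {L : Subgroup Y} (hR : RadFree Y) (h : MinPerf L) (hsn : L.IsSubnormal) :
    Cfsg.IsComponent L := by
  refine ⟨hsn, ?_⟩
  haveI : Nontrivial L := (Subgroup.nontrivial_iff_ne_bot L).mpr h.ne
  refine isQuasisimple_of_perfect_of_subnormal inferInstance (isPerfect_subtype h.perfect).1 fun N hN hne => ?_
  have hNs : Group.IsSolvable (N.map L.subtype) := by
    refine h.solvable_of_ne (map_subtype_le _) ?_ fun e => hne ?_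
    · rw [subgroupOf, comap_map_eq_self_of_injective L.subtype_injective]; exact hN.isSubnormal
    · apply Subgroup.map_injective L.subtype_injective
      rw [e, ← MonoidHom.range_eq_map, range_subtype]
  rw [(map_eq_bot_iff_of_injective N L.subtype_injective).1
    (hR.subnormal (isSubnormal_map_subtype hsn hN.isSubnormal) hNs)]
  exact bot_le

end Cfsg.Lib.QTUniq
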